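import Cfsg.Agent.Lib.FischerLarge58.ChecksC
import Cfsg.Agent.Lib.FischerLarge43.Points
import Cfsg.Agent.Lib.FischerLarge45.Codes

/-!
# Checks on the states: the duads meeting `(3,4)`, the fours through it, one move

Owner: helper20.
-/

set_option autoImplicit false
set_option maxRecDepth 100000

namespace Cfsg.Agent.Lib.FischerFi22Large20

open Cfsg.Agent.Lib.FischerLarge43
open Cfsg.Agent.Lib.FischerLarge58
open Cfsg.Agent.Lib.FischerLarge45.Model (uSet)
open Cfsg.Agent.Lib.FischerLarge45.Codes (inU qn)

/-- states `m`, `m + 4` both outside the class -/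
theorem duad_meet : (List.range 2048).all (fun m =>
    !(ttM.testBit m && ttM.testBit (m ^^^ 4)) || eL.contains m ||
      ptsM.testBit (m ^^^ 8) || ptsM.testBit (m ^^^ 12)) = true := by decide +kernel

/-- a state of the class with `m + 4` outside -/
theorem four_split : (List.range 2048).all (fun m =>
    !(!ttM.testBit m && ttM.testBit (m ^^^ 4) && !eL.contains m) || ptsM.testBit m ||
      ptsL.any (fun a => ptsL.any fun b => a != b && (m ^^^ a ^^^ b == 0 || m ^^^ a ^^^ b == 4))) = true := by
  decide +kernel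

theorem singular_inU : (List.range 4096).all (fun k =>
    k == 0 || qn k || isR k || inU k) = true := by decide +kernel

/-- the moved element lies over `bimg v + v` -/
theorem move_ok : pvF 3 7 = 1036 ∧ uvec (1036 &&& 63) = 240 ∧ 1036 ∈ uList ∧
    ((List.range 4096).any fun v => (v ^^^ bimg ((pvF 3 13 >>> 6) &&& 15) v) == 240) = true ∧
    ((List.range 4096).all fun v => uSet.contains (v ^^^ bimg ((pvF 3 13 >>> 6) &&& 15) v)) = true := by
  decide +kernel

theorem small_states : pvF 3 4 = 4 ∧ pvF 3 10 = 8 ∧ pvF 4 10 = 12 ∧ pvF 10 7 = 1028 ∧ pvF 4 7 = 1032 ∧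
    uvec (4 &&& 63) = 80 ∧ uvec (8 &&& 63) = 160 ∧ uvec (12 &&& 63) = 240 := by decide +kernel

end Cfsg.Agent.Lib.FischerFi22Large20
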