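import Cfsg.Agent.Lib.FischerLarge58.Main
import Cfsg.Agent.Lib.FischerFi22Large20.Checks

/-!
# The centraliser of `t = (3,4)` modulo `t`, the class of `a = (3,10)` in it, and the involutions
of `C(E)` lying in that class

Owner: helper20.
-/

set_option autoImplicit false
set_option linter.style.haveILetI false
set_option linter.unusedSectionVars false
set_option maxRecDepth 100000

namespace Cfsg.Agent.Lib.FischerFi22Large20

open Cfsg.Agent.Lib.LargeFischer13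
open Cfsg.Agent.Lib.FischerLarge43
open Cfsg.Agent.Lib.FischerLarge58
open Cfsg.Agent.Lib.FischerLarge45 (Local zc)
open Cfsg.Agent.Lib.Golay (ptEquiv)

attribute [local instance] Bridge.acg Bridge.fin Bridge.act

universe u

variable {G : Type u} [Group G] [Finite G] {z : G} {Q : Subgroup (Cz z)} [Q.Normal]
variable {L : Local z Q} (K : Ctx L)

theorem isConj_conj (k x : G) : IsConj z (k * x * k⁻¹) ↔ IsConj z x :=
  ⟨fun h => h.trans (isConj_iff.2 ⟨k⁻¹, by group⟩), fun h => h.trans (isConj_iff.2 ⟨k, rfl⟩)⟩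

/-- a permutation of five points is induced by the normaliser -/
theorem exists_perm5 (u v : Fin 5 → Fin 24) (hu : Function.Injective u) (hv : Function.Injective v) :
    ∃ g ∈ NA L, ∀ i k, g * K.g (pvF (u i) (u k)) * g⁻¹ = K.g (pvF (v i) (v k)) := by
  haveI := Golay.multiply_pretransitive
  let e1 : Fin 5 ↪ Cfsg.GolayPt := ⟨fun i => ptEquiv (u i), ptEquiv.injective.comp hu⟩
  let e2 : Fin 5 ↪ Cfsg.GolayPt := ⟨fun i => ptEquiv (v i), ptEquiv.injective.comp hv⟩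
  obtain ⟨⟨σ, hσ⟩, hse⟩ := MulAction.exists_smul_eq Cfsg.M24 e1 e2
  rw [← K.Pt.range_eq] at hσ
  obtain ⟨⟨g, hg⟩, rfl⟩ := hσ
  have hi : ∀ i, ptEquiv.symm (K.Pt.φ ⟨g, hg⟩ (ptEquiv (u i))) = v i := fun i =>
    (congrArg ptEquiv.symm (DFunLike.congr_fun hse i)).trans (ptEquiv.symm_apply_apply _)
  exact ⟨g, hg, fun i k => by rw [K.pt_equiv hg, hi, hi]⟩

/-- the centraliser of `t` -/
noncomputable abbrev CT : Subgroup G := Subgroup.centralizer ({K.g 4} : Set G)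

theorem mem_CT {w : G} : w ∈ CT K ↔ Commute (K.g 4) w :=
  Subgroup.mem_centralizer_singleton_iff.trans ⟨fun h => h.symm, fun h => h.symm⟩

theorem g_mem_CT {m : Nat} (hm : m < 2048) : K.g m ∈ CT K := (mem_CT K).2 (K.g_comm (by norm_num) hm)

theorem CE_le_CT {w : G} (hw : w ∈ K.CE) : w ∈ CT K := (mem_CT K).2 (K.mem_CE.1 hw).1

theorem conj_t {w : G} (hw : w ∈ CT K) : w * K.g 4 * w⁻¹ = K.g 4 :=
  mul_inv_eq_iff_eq_mul.2 ((mem_CT K).1 hw).eq.symm

theorem t_sq : K.g 4 * K.g 4 = 1 := K.g_sq (by norm_num)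

theorem g_four_eight : K.g 8 * K.g 4 = K.g 12 := by
  rw [← K.g_xor (by norm_num) (by norm_num)]
  rfl

theorem g_four_twelve : K.g 12 * K.g 4 = K.g 8 := by
  rw [← K.g_xor (by norm_num) (by norm_num)]
  rfl

theorem conj_g12 {w : G} (hw : w ∈ CT K) : w * K.g 12 * w⁻¹ = w * K.g 8 * w⁻¹ * K.g 4 := by
  conv_rhs => rw [← conj_t K hw]
  rw [← g_four_eight K]
  group

theorem g_ne {m n : Nat} (hm : m < 2048) (hn : n < 2048) (h : m ≠ n) : K.g m ≠ K.g n :=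
  fun e => h (K.g_inj hm hn e)

/-- the subgroup of `t` -/
noncomputable abbrev TT : Subgroup (CT K) := (Subgroup.zpowers (K.g 4)).subgroupOf (CT K)

theorem mem_TT {w : CT K} : w ∈ TT K ↔ (w : G) = 1 ∨ (w : G) = K.g 4 := by
  rw [Subgroup.mem_subgroupOf, Subgroup.mem_zpowers_iff]
  constructor
  · rintro ⟨k, hk⟩
    rcases Int.even_or_odd k with ⟨j, rfl⟩ | ⟨j, rfl⟩
    · left
      rw [← hk, zpow_add, ← (Commute.refl (K.g 4)).mul_zpow, t_sq K, one_zpow]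
    · right
      rw [← hk, zpow_add_one, two_mul, zpow_add, ← (Commute.refl (K.g 4)).mul_zpow, t_sq K, one_zpow, one_mul]
  · rintro (h | h)
    · exact ⟨0, by rw [h, zpow_zero]⟩
    · exact ⟨1, by rw [h, zpow_one]⟩

instance TT_normal : (TT K).Normal := ⟨fun n hn g => by
  rw [mem_TT] at hn ⊢
  rcases hn with h | h
  · left
    show (g : G) * n * (g : G)⁻¹ = 1
    rw [h, mul_one, mul_inv_cancel]
  · right
    show (g : G) * n * (g : G)⁻¹ = K.g 4
    rw [h, conj_t K g.2]⟩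

/-- the centraliser of `t` modulo `t` -/
abbrev Y : Type u := ↥(CT K) ⧸ TT K

open Classical in
/-- the image of an element of the centraliser -/
noncomputable def qy (w : G) : Y K := if h : w ∈ CT K then QuotientGroup.mk ⟨w, h⟩ else 1

theorem qy_eq_mk {w : G} (h : w ∈ CT K) : qy K w = QuotientGroup.mk ⟨w, h⟩ := dif_pos h

theorem qy_mul {v w : G} (hv : v ∈ CT K) (hw : w ∈ CT K) : qy K (v * w) = qy K v * qy K w := by
  rw [qy_eq_mk K hv, qy_eq_mk K hw, qy_eq_mk K (mul_mem hv hw)]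
  rfl

theorem qy_inv {v : G} (hv : v ∈ CT K) : qy K v⁻¹ = (qy K v)⁻¹ := by
  rw [qy_eq_mk K hv, qy_eq_mk K (inv_mem hv)]
  rfl

theorem qy_one : qy K 1 = 1 := qy_eq_mk K (one_mem _)

theorem qy_conj {g w : G} (hg : g ∈ CT K) (hw : w ∈ CT K) :
    qy K (g * w * g⁻¹) = qy K g * qy K w * (qy K g)⁻¹ := by
  rw [qy_mul K (mul_mem hg hw) (inv_mem hg), qy_mul K hg hw, qy_inv K hg]

theorem qy_surj (y : Y K) : ∃ w ∈ CT K, qy K w = y := by
  obtain ⟨⟨w, hw⟩, rfl⟩ := QuotientGroup.mk_surjective y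
  exact ⟨w, hw, qy_eq_mk K hw⟩

theorem qy_eq {v w : G} (hv : v ∈ CT K) (hw : w ∈ CT K) :
    qy K v = qy K w ↔ w = v ∨ w = v * K.g 4 := by
  rw [qy_eq_mk K hv, qy_eq_mk K hw, QuotientGroup.eq, mem_TT]
  show v⁻¹ * w = 1 ∨ v⁻¹ * w = K.g 4 ↔ _
  rw [inv_mul_eq_iff_eq_mul, inv_mul_eq_iff_eq_mul, mul_one]

theorem qy_t : qy K (K.g 4) = 1 := by
  rw [← qy_one K, qy_eq K (g_mem_CT K (by norm_num)) (one_mem _)]
  exact Or.inr (t_sq K).symm

theorem qy_mul_t {v : G} (hv : v ∈ CT K) : qy K (v * K.g 4) = qy K v := by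
  rw [qy_mul K hv (g_mem_CT K (by norm_num)), qy_t K, mul_one]

theorem qy_comm_iff {v w : G} (hv : v ∈ CT K) (hw : w ∈ CT K) :
    Commute (qy K v) (qy K w) ↔ v * w * v⁻¹ = w ∨ v * w * v⁻¹ = w * K.g 4 := by
  rw [← qy_eq K hw (mul_mem (mul_mem hv hw) (inv_mem hv)), qy_conj K hv hw, commute_iff_eq, eq_comm (a := qy K w),
    mul_inv_eq_iff_eq_mul]

/-- the elements over the class of `a` -/
def Dl (w : G) : Prop := ∃ g ∈ CT K, g * K.g 8 * g⁻¹ = w ∨ g * K.g 12 * g⁻¹ = w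

/-- the class of the image of `a` -/
def DY : Set (Y K) := {y | ∃ g : Y K, g * qy K (K.g 8) * g⁻¹ = y}

theorem qy_b : qy K (K.g 12) = qy K (K.g 8) := by
  rw [← g_four_eight K, qy_mul_t K (g_mem_CT K (by norm_num))]

theorem mem_DY {w : G} (hw : w ∈ CT K) : qy K w ∈ DY K ↔ Dl K w := by
  constructor
  · rintro ⟨y, hy⟩
    obtain ⟨g, hg, rfl⟩ := qy_surj K y
    have h8 := g_mem_CT K (show 8 < 2048 by norm_num)
    rw [← qy_conj K hg h8, qy_eq K (mul_mem (mul_mem hg h8) (inv_mem hg)) hw] at hy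
    refine ⟨g, hg, hy.imp Eq.symm fun e => ?_⟩
    rw [conj_g12 K hg, e]
  · rintro ⟨g, hg, h | h⟩
    · exact ⟨qy K g, by rw [← qy_conj K hg (g_mem_CT K (by norm_num)), h]⟩
    · exact ⟨qy K g, by rw [← qy_b K, ← qy_conj K hg (g_mem_CT K (by norm_num)), h]⟩

theorem dl_mem {w : G} (h : Dl K w) : w ∈ CT K := by
  obtain ⟨g, hg, rfl | rfl⟩ := h <;>
    exact mul_mem (mul_mem hg (g_mem_CT K (by norm_num))) (inv_mem hg)

theorem dl_conj {g w : G} (hg : g ∈ CT K) (h : Dl K w) : Dl K (g * w * g⁻¹) := by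
  obtain ⟨k, hk, h⟩ := h
  refine ⟨g * k, mul_mem hg hk, h.imp (fun e => ?_) fun e => ?_⟩ <;> rw [← e] <;> group

theorem dl_mul_t {w : G} (h : Dl K w) : Dl K (w * K.g 4) := by
  obtain ⟨g, hg, rfl | rfl⟩ := h
  · exact ⟨g, hg, Or.inr (conj_g12 K hg)⟩
  · refine ⟨g, hg, Or.inl ?_⟩
    rw [conj_g12 K hg, mul_assoc _ (K.g 4), t_sq K, mul_one]

theorem dl_sq {w : G} (h : Dl K w) : w * w = 1 := by
  obtain ⟨g, hg, rfl | rfl⟩ := h <;>
    (rw [show ∀ x : G, g * x * g⁻¹ * (g * x * g⁻¹) = g * (x * x) * g⁻¹ from fun x => by group,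
        K.g_sq (by norm_num), mul_one, mul_inv_cancel])

theorem dl_not_conj {w : G} (h : Dl K w) : ¬ IsConj z w := by
  obtain ⟨t4, t8, t12, -⟩ := e_states
  obtain ⟨g, -, rfl | rfl⟩ := h <;> rw [isConj_conj]
  · exact ((K.mem_tt (by norm_num)).1 t8).2
  · exact ((K.mem_tt (by norm_num)).1 t12).2

theorem dl_qy_ne_one {w : G} (h : Dl K w) : qy K w ≠ 1 := by
  intro e
  rw [← qy_one K, qy_eq K (dl_mem K h) (one_mem _)] at e
  obtain ⟨g, hg, hw⟩ := h
  have hw' : w = 1 ∨ w = K.g 4 := e.imp Eq.symm fun e' => by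
    rw [eq_inv_of_mul_eq_one_left e'.symm, K.g_inv (by norm_num)]
  have key : ∀ n < 2048, n ≠ 0 → n ≠ 4 → g * K.g n * g⁻¹ = w → False := by
    intro n hn h0 h4 hgn
    rcases hw' with rfl | rfl
    · refine g_ne K hn (by norm_num) h0 ?_
      rw [K.g_zero, ← conj_eq_one_iff, hgn]
    · refine g_ne K hn (by norm_num) h4 ?_
      have := mul_left_cancel (mul_right_cancel (hgn.trans (conj_t K hg).symm))
      exact this
  rcases hw with hw | hw
  · exact key 8 (by norm_num) (by norm_num) (by norm_num) hw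
  · exact key 12 (by norm_num) (by norm_num) (by norm_num) hw

theorem ya_mem : qy K (K.g 8) ∈ DY K := ⟨1, by rw [one_mul, inv_one, mul_one]⟩

theorem DY_conj (g : Y K) {y : Y K} (hy : y ∈ DY K) : g * y * g⁻¹ ∈ DY K := by
  obtain ⟨k, rfl⟩ := hy
  exact ⟨g * k, by group⟩

theorem DY_sq {y : Y K} (hy : y ∈ DY K) : y * y = 1 := by
  obtain ⟨w, hw, rfl⟩ := qy_surj K y
  rw [← qy_mul K hw hw, dl_sq K ((mem_DY K hw).1 hy), qy_one]

theorem DY_order {y : Y K} (hy : y ∈ DY K) : orderOf y = 2 := by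
  obtain ⟨w, hw, rfl⟩ := qy_surj K y
  haveI : Fact (Nat.Prime 2) := ⟨Nat.prime_two⟩
  exact orderOf_eq_prime (by rw [pow_two, DY_sq K hy]) (dl_qy_ne_one K ((mem_DY K hw).1 hy))

/-! ## The class of `z` in `C(E)` -/

theorem inD_ncard : {X : G | K.InD X}.ncard = 693 := by
  have h := K.conclusion.2.1
  rw [K.comp_eq] at h
  rw [← h]
  refine Set.ncard_congr (fun X hX => (QuotientGroup.mk ⟨X, K.inD_mem hX⟩ : K.KE))
    (fun X hX => ⟨⟨X, K.inD_mem hX⟩, hX, rfl⟩)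
    (fun X Y hX hY e => congrArg Subtype.val (K.lift_inj (a := ⟨X, K.inD_mem hX⟩) (b := ⟨Y, K.inD_mem hY⟩) hX hY e))
    fun x hx => ?_
  obtain ⟨X, hX, rfl⟩ := hx
  exact ⟨X, hX, rfl⟩

/-- an involution permuting the class fixes a member -/
theorem exists_fixed {w : G} (hw : w * w = 1) (hn : ∀ X, K.InD X → K.InD (w * X * w⁻¹)) :
    ∃ X, K.InD X ∧ Commute w X := by
  classical
  haveI : Fact (Nat.Prime 2) := ⟨Nat.prime_two⟩
  haveI : Fintype ↥{X : G | K.InD X} := Fintype.ofFinite _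
  have hinv : ∀ X : G, w * (w * X * w⁻¹) * w⁻¹ = X := fun X => by
    rw [show w * (w * X * w⁻¹) * w⁻¹ = w * w * X * (w * w)⁻¹ by group, hw, inv_one, one_mul, mul_one]
  let σ : Equiv.Perm ↥{X : G | K.InD X} := Function.Involutive.toPerm
    (fun X => ⟨w * X.1 * w⁻¹, hn X.1 X.2⟩) fun X => Subtype.ext (hinv X.1)
  have hodd : ¬ 2 ∣ Fintype.card ↥{X : G | K.InD X} := by
    rw [← Nat.card_eq_fintype_card, Nat.card_coe_set_eq, inD_ncard K]
    norm_num
  obtain ⟨X, hX⟩ := Equiv.Perm.exists_fixed_point_of_prime (n := 1) hodd (σ := σ) (by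
    rw [pow_one, pow_two]
    exact Equiv.ext fun x => Subtype.ext (hinv x.1))
  exact ⟨X.1, X.2, mul_inv_eq_iff_eq_mul.1 (congrArg Subtype.val hX)⟩

/-- an involution of `C(E)` outside `E` is conjugate there to a state outside `E` -/
theorem to_state {w : G} (hw : w ∈ K.CE) (hE : w ∉ K.EG) (h2 : w * w = 1) :
    ∃ c ∈ K.CE, ∃ m < 2048, m ∉ eL ∧ c * w * c⁻¹ = K.g m := by
  obtain ⟨X, ⟨c, hc, rfl⟩, hX⟩ := exists_fixed K h2 fun X h => K.inD_conj hw h
  have hwz : c⁻¹ * w * c * z = z * (c⁻¹ * w * c) := by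
    have h := congrArg (fun x => c⁻¹ * x * c) hX.eq
    simpa [mul_assoc] using h
  set W : Cz z := ⟨c⁻¹ * w * c, Subgroup.mem_centralizer_singleton_iff.2 hwz⟩
  have hWC : W ∈ K.C1 := mul_mem (mul_mem (inv_mem hc) hw) hc
  have hW2 : W * W = 1 := Subtype.ext (by
    show c⁻¹ * w * c * (c⁻¹ * w * c) = 1
    rw [show c⁻¹ * w * c * (c⁻¹ * w * c) = c⁻¹ * (w * w) * c by group, h2, mul_one, inv_mul_cancel])
  obtain ⟨d, hd, m, hm, em⟩ := K.into_A hWC hW2
  have e : (d : G) * c⁻¹ * w * ((d : G) * c⁻¹)⁻¹ = K.g m := by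
    show _ = ((K.P.el m : Cz z) : G)
    rw [← em]
    show _ = (d : G) * (c⁻¹ * w * c) * (d : G)⁻¹
    group
  have hdc : (d : G) * c⁻¹ ∈ K.CE := mul_mem hd (inv_mem hc)
  refine ⟨_, hdc, m, hm, fun he => hE ?_, e⟩
  have hmE : K.g m ∈ K.EG := ⟨m, he, rfl⟩
  have hw' : w = ((d : G) * c⁻¹)⁻¹ * K.g m * ((d : G) * c⁻¹) := by rw [← e]; group
  rw [hw', mul_assoc, (K.e_comm hdc hmE).eq, inv_mul_cancel_left]
  exact hmE

theorem EG_not_conj {e : G} (he : e ∈ K.EG) : ¬ IsConj z e := by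
  obtain ⟨n, hn, rfl⟩ := K.mem_EG.1 he
  obtain ⟨t4, t8, t12, -⟩ := e_states
  intro h
  obtain ⟨h0, h1⟩ := (K.conj_iff (eL_facts n hn).1).1 h
  simp only [eL, List.mem_cons, List.not_mem_nil, or_false] at hn
  rcases hn with rfl | rfl | rfl | rfl
  exacts [h0 rfl, Bool.noConfusion (t4.symm.trans h1), Bool.noConfusion (t8.symm.trans h1),
    Bool.noConfusion (t12.symm.trans h1)]

/-- the class of `z` in `C(E)` is told by the classes of `G` -/
theorem inD_of {y : G} (hy : y ∈ K.CE) (hz : IsConj z y)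
    (he : ∀ e ∈ K.EG, e ≠ 1 → ¬ IsConj z (y * e)) : K.InD y := by
  have hy2 : y * y = 1 := by
    obtain ⟨g, rfl⟩ := isConj_iff.1 hz
    have h := K.g_sq (show 1024 < 2048 by norm_num)
    rw [K.g_z] at h
    rw [show g * z * g⁻¹ * (g * z * g⁻¹) = g * (z * z) * g⁻¹ by group, h, mul_one, mul_inv_cancel]
  obtain ⟨c, hc, m, hm, -, e⟩ := to_state K hy (fun h => EG_not_conj K h hz) hy2
  have hmz : IsConj z (K.g m) := e ▸ (isConj_conj c y).2 hz
  obtain ⟨h0, h1⟩ := (K.conj_iff hm).1 hmz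
  have hx : ∀ n ∈ eL, n ≠ 0 → ttM.testBit (m ^^^ n) = true := by
    intro n hn hn0
    have hlt := (eL_facts n hn).1
    have hne : K.g n ≠ 1 := fun h => hn0 (K.g_inj hlt (by norm_num) (h.trans K.g_zero.symm))
    have h' := he _ ⟨n, hn, rfl⟩ hne
    rw [← isConj_conj c, show c * (y * K.g n) * c⁻¹ = c * y * c⁻¹ * (c * K.g n * c⁻¹) by group, e,
      mul_inv_eq_iff_eq_mul.2 (K.e_comm hc ⟨n, hn, rfl⟩).eq.symm, ← K.g_xor hm hlt] at h'
    by_contra ht
    rw [Bool.not_eq_true] at ht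
    refine h' ((K.conj_iff (Nat.xor_lt_two_pow (n := 11) hm hlt)).2 ⟨fun h0' => ?_, ht⟩)
    exact EG_not_conj K (K.mem_EG.2 ⟨n, hn, by rw [Nat.xor_eq_zero_iff.1 h0']⟩) hmz
  have hp : m ∈ ptsL := by
    rw [← FischerLarge58.list_mask, ptsM_ok]
    have hf := List.all_eq_true.1 ptsL_filter m (List.mem_range.2 hm)
    rw [beq_iff_eq] at hf
    rw [hf, hx 4 (by simp [eL]) (by norm_num), hx 8 (by simp [eL]) (by norm_num),
      hx 12 (by simp [eL]) (by norm_num), h1]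
    simp [h0]
  rw [← K.inD_conj_iff hc, e]
  exact K.pts_inD hp

/-- an involution of `C(E)` outside `E` whose two lifts lie outside the class -/
theorem classify {w : G} (hw : w ∈ K.CE) (hE : w ∉ K.EG) (h2 : w * w = 1) (h1 : ¬ IsConj z w)
    (ht : ¬ IsConj z (w * K.g 4)) : ∃ X, K.InD X ∧ (w = X * K.g 8 ∨ w = X * K.g 12) := by
  obtain ⟨c, hc, m, hm, hme, e⟩ := to_state K hw hE h2
  have hm0 : m ≠ 0 := fun h => hme (h ▸ by simp [eL])
  have h4 : (4 : Nat) ∈ eL := by simp [eL]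
  have t1 : ttM.testBit m = true := (K.mem_tt hm).2 ⟨hm0, e ▸ mt (isConj_conj c w).1 h1⟩
  have t2 : ttM.testBit (m ^^^ 4) = true := by
    refine (K.mem_tt (Nat.xor_lt_two_pow (n := 11) hm (by norm_num))).2
      ⟨fun h => hme (by rw [Nat.xor_eq_zero_iff.1 h]; exact h4), ?_⟩
    rw [K.g_xor hm (by norm_num), ← e, ← mul_inv_eq_iff_eq_mul.2 (K.e_comm hc ⟨4, h4, rfl⟩).eq.symm,
      show c * w * c⁻¹ * (c * K.g 4 * c⁻¹) = c * (w * K.g 4) * c⁻¹ by group, isConj_conj]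
    exact ht
  have hcase := List.all_eq_true.1 duad_meet m (List.mem_range.2 hm)
  simp only [t1, t2, Bool.and_self, Bool.not_true, Bool.false_or, Bool.or_eq_true,
    List.contains_iff_mem, hme, false_or] at hcase
  have back : ∀ n ∈ eL, ptsM.testBit (m ^^^ n) = true → ∃ X, K.InD X ∧ w = X * K.g n := by
    intro n hn hp
    rw [← ptsM_ok, FischerLarge58.list_mask] at hp
    have hlt := (eL_facts n hn).1
    refine ⟨c⁻¹ * K.g (m ^^^ n) * c, by simpa using K.inD_conj (inv_mem hc) (K.pts_inD hp), ?_⟩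
    rw [mul_assoc, mul_assoc c⁻¹, ← (K.e_comm hc ⟨n, hn, rfl⟩).eq, ← mul_assoc (K.g _),
      ← K.g_xor (Nat.xor_lt_two_pow (n := 11) hm hlt) hlt, Nat.xor_assoc, Nat.xor_self, Nat.xor_zero, ← e]
    group
  rcases hcase with h | h
  · obtain ⟨X, hX, e'⟩ := back 8 (by simp [eL]) h
    exact ⟨X, hX, Or.inl e'⟩
  · obtain ⟨X, hX, e'⟩ := back 12 (by simp [eL]) h
    exact ⟨X, hX, Or.inr e'⟩

/-! ## Elements of `C(t)` normalising the four-group -/

/-- fixes or exchanges `a` and `b` -/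
def NE (w : G) : Prop := w ∈ CT K ∧ (w * K.g 8 * w⁻¹ = K.g 8 ∨ w * K.g 8 * w⁻¹ = K.g 12)

theorem NE_inv {w : G} (h : NE K w) : NE K w⁻¹ := by
  refine ⟨inv_mem h.1, ?_⟩
  rcases h.2 with e | e
  · left
    calc w⁻¹ * K.g 8 * w⁻¹⁻¹ = w⁻¹ * (w * K.g 8 * w⁻¹) * w := by rw [e, inv_inv]
      _ = K.g 8 := by group
  · right
    have e' : w * K.g 12 * w⁻¹ = K.g 8 := by rw [conj_g12 K h.1, e, g_four_twelve K]
    calc w⁻¹ * K.g 8 * w⁻¹⁻¹ = w⁻¹ * (w * K.g 12 * w⁻¹) * w := by rw [e', inv_inv]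
      _ = K.g 12 := by group

theorem NE_mem_EG {w e : G} (h : NE K w) (he : e ∈ K.EG) : w * e * w⁻¹ ∈ K.EG := by
  have h8 : w * K.g 8 * w⁻¹ ∈ K.EG := by
    rcases h.2 with e | e <;> rw [e]
    · exact ⟨8, by simp [eL], rfl⟩
    · exact ⟨12, by simp [eL], rfl⟩
  have h4 : K.g 4 ∈ K.EG := ⟨4, by simp [eL], rfl⟩
  obtain ⟨n, hn, rfl⟩ := K.mem_EG.1 he
  simp only [eL, List.mem_cons, List.not_mem_nil, or_false] at hn
  rcases hn with rfl | rfl | rfl | rfl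
  · rw [K.g_zero, mul_one, mul_inv_cancel]; exact one_mem _
  · rw [conj_t K h.1]; exact h4
  · exact h8
  · rw [conj_g12 K h.1]; exact mul_mem h8 h4

theorem NE_inD {w X : G} (h : NE K w) (hX : K.InD X) : K.InD (w * X * w⁻¹) := by
  have hi := NE_inv K h
  refine inD_of K (fun e he => ?_) ((isConj_conj w X).2 (K.inD_isConj hX)) fun e he hne => ?_
  · have hm := NE_mem_EG K hi he
    have h' := ((K.e_comm (K.inD_mem hX) hm).map (MulAut.conj w)).eq
    simpa [mul_assoc] using h'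
  · rw [show w * X * w⁻¹ * e = w * (X * (w⁻¹ * e * w⁻¹⁻¹)) * w⁻¹ by group, isConj_conj]
    exact K.inD_mul_e hX (NE_mem_EG K hi he) fun h1 => hne (conj_eq_one_iff.1 h1)

end Cfsg.Agent.Lib.FischerFi22Large20
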