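import Cfsg.Agent.Lib.Fi22Core20.Main
import Cfsg.Agent.Lib.FischerMTypes.InvolutionsM22
import Cfsg.Agent.Lib.FischerMTypes.StabilizerM22
import Cfsg.Agent.Lib.FischerAut6.Final
import Cfsg.Agent.Lib.FischerLarge43.Generic

/-!
# A class with the perp set of U6(2), unique pairs and self-centralising triples is connected

The component generates a copy of Fi22, normal with trivial centraliser and of index at most two.

Owner: helper20.
-/

set_option autoImplicit false
set_option linter.style.haveILetI false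
set_option linter.unusedSectionVars false
set_option maxRecDepth 20000

namespace Cfsg.Agent.Lib.FischerFi22Large20

open Cfsg.Agent.Lib.Fi22Core20 (Host Kernel comp Rel Iso1 comp_sub perp_sub_comp)
open Cfsg.Agent.Lib.FischerUniq91.Coord (V unit vec)
open Cfsg.Agent.Lib.FischerUniq91.Checks (J1 e0)
open Cfsg.Agent.Lib.FischerMTypes.Primitive (perp perp₂)
open Cfsg.Agent.Lib.FischerMTypes

/-- what is known of the class -/
structure Setting {Y : Type*} [Group Y] (D : Set Y) (b : Y) where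
  H : Host D b
  ker : Kernel D b
  pair : ∀ u v x y, u ∈ D → v ∈ D → x ∈ D → y ∈ D → Commute u v → Commute x y → u ≠ v → x ≠ y →
    u * v = x * y → x = u ∨ x = v
  pair_not : ∀ u v, u ∈ D → v ∈ D → Commute u v → u ≠ v → u * v ∉ D
  triple : ∀ u v c, u ∈ comp D b → v ∈ comp D b → c ∈ comp D b → Commute u v → Commute u c → Commute v c →
    u ≠ v → u ≠ c → v ≠ c → ∀ g, Commute g (u * v * c) → ∀ y ∈ comp D b, g * y * g⁻¹ ∈ comp D b

namespace Setting

variable {Y : Type*} [Group Y] [Finite Y] {D : Set Y} {b : Y} (S : Setting D b)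

include S

theorem sq {x : Y} (hx : x ∈ D) : x * x = 1 := S.H.sq hx

theorem inv {x : Y} (hx : x ∈ D) : x⁻¹ = x := S.H.inv_eq hx

omit S in
/-- conjugation keeps relations -/
theorem rel_conj (hconj : ∀ g : Y, ∀ x ∈ D, g * x * g⁻¹ ∈ D) (g : Y) {a x : Y} (h : Rel D a x) :
    Rel D (g * a * g⁻¹) (g * x * g⁻¹) := by
  refine ⟨hconj g x h.1, h.2.imp (fun e => e.map (MulAut.conj g)) ?_⟩
  rintro ⟨p, hp1, hp2⟩
  have hm : ∀ {u : Y}, p ∈ perp D u → g * p * g⁻¹ ∈ perp D (g * u * g⁻¹) := fun hp =>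
    ⟨hconj g p hp.1, fun e => hp.2.1 (mul_left_cancel (mul_right_cancel e)), hp.2.2.map (MulAut.conj g)⟩
  exact ⟨g * p * g⁻¹, hm hp1, hm hp2⟩

/-- one member moved into the component: all are -/
theorem move {g u : Y} (hu : u ∈ comp D b) (hg : g * u * g⁻¹ ∈ comp D b) {y : Y} (hy : y ∈ comp D b) :
    g * y * g⁻¹ ∈ comp D b := by
  rw [← S.H.comp_eq hu] at hy
  rw [← S.H.comp_eq hg]
  exact rel_conj S.H.conjD g hy

omit S in
/-- products of powers in a dihedral group are conjugates of the generators -/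
theorem mul_pow_mem (hconj : ∀ g : Y, ∀ x ∈ D, g * x * g⁻¹ ∈ D) {x y : Y} (hx : x ∈ D) (hy : y ∈ D)
    (hx2 : x * x = 1) (hy2 : y * y = 1) (m : ℕ) : x * (x * y) ^ m ∈ D ∧ y * (x * y) ^ m ∈ D := by
  induction m using Nat.strong_induction_on with
  | _ m ih =>
    match m with
    | 0 => exact ⟨by simpa using hx, by simpa using hy⟩
    | 1 =>
      refine ⟨by rwa [pow_one, ← mul_assoc, hx2, one_mul], ?_⟩
      rw [pow_one]
      have := hconj y x hx
      rwa [inv_eq_of_mul_eq_one_right hy2, mul_assoc] at this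
    | n + 2 =>
      obtain ⟨h1, h2⟩ := ih n (by omega)
      have e : ∀ w : Y, w * (x * y) * w = (x * y)⁻¹ → w * w = 1 →
          w * (x * y) ^ (n + 2) = (x * y)⁻¹ * (w * (x * y) ^ n) * (x * y)⁻¹⁻¹ := by
        intro w hw hw2
        have hw' : w * (x * y) = (x * y)⁻¹ * w := by
          rw [← hw, mul_assoc (w * (x * y)), hw2, mul_one]
        rw [inv_inv, pow_succ' _ (n + 1), ← mul_assoc w, hw', pow_succ]
        simp only [mul_assoc]
      have ix : x⁻¹ = x := inv_eq_of_mul_eq_one_right hx2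
      have iy : y⁻¹ = y := inv_eq_of_mul_eq_one_right hy2
      refine ⟨?_, ?_⟩
      · rw [e x (by rw [← mul_assoc, hx2, one_mul, mul_inv_rev, ix, iy]) hx2]
        exact hconj _ _ h1
      · rw [e y (by rw [mul_assoc y, mul_assoc x, hy2, mul_one, mul_inv_rev, ix, iy]) hy2]
        exact hconj _ _ h2

omit S [Finite Y] in
/-- the central involution of a dihedral group -/
theorem central {x y : Y} (hx2 : x * x = 1) (hy2 : y * y = 1) {k : ℕ} (hk : orderOf (x * y) = k + k) :
    (x * y) ^ k * (x * y) ^ k = 1 ∧ Commute ((x * y) ^ k) x ∧ Commute ((x * y) ^ k) y := by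
  have ix : x⁻¹ = x := inv_eq_of_mul_eq_one_right hx2
  have iy : y⁻¹ = y := inv_eq_of_mul_eq_one_right hy2
  have h2 : (x * y) ^ k * (x * y) ^ k = 1 := by rw [← pow_add, ← hk, pow_orderOf_eq_one]
  have hi : ((x * y) ^ k)⁻¹ = (x * y) ^ k := inv_eq_of_mul_eq_one_right h2
  have hy : Commute y ((x * y) ^ k) := by
    have h : SemiconjBy y (x * y) (x * y)⁻¹ := by
      show y * (x * y) = (x * y)⁻¹ * y
      simp only [mul_inv_rev, ix, iy, mul_assoc]
    have h' := h.pow_right k
    rwa [inv_pow, hi] at h'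
  have hc : Commute ((x * y) ^ k) (x * y * y) := ((Commute.refl (x * y)).pow_left k).mul_right hy.symm
  rw [mul_assoc x, hy2, mul_one] at hc
  exact ⟨h2, hc, hy.symm⟩

/-- two members whose product has even order commute -/
theorem even_comm {x y : Y} (hx : x ∈ D) (hy : y ∈ D) (he : Even (orderOf (x * y))) : Commute x y := by
  obtain ⟨k, hk⟩ := he
  obtain ⟨hc2, hcx, hcy⟩ := central (S.sq hx) (S.sq hy) hk
  set c := (x * y) ^ k with hc
  have hc1 : c ≠ 1 := fun h => by
    have hpos := orderOf_pos (x * y)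
    have := orderOf_le_of_pow_eq_one (show 0 < k by omega) h
    omega
  obtain ⟨hxc, hyc⟩ := mul_pow_mem S.H.conjD hx hy (S.sq hx) (S.sq hy) k
  have key : ∀ w, w ∈ D → w * c ∈ D → Commute c w → w * (w * c) = c ∧ Commute w (w * c) ∧ w ≠ w * c := by
    intro w hw _ hcw
    refine ⟨by rw [← mul_assoc, S.sq hw, one_mul], (Commute.refl w).mul_right hcw.symm, fun h => hc1 ?_⟩
    exact mul_eq_left.1 h.symm
  obtain ⟨e1, c1, n1⟩ := key x hx hxc hcx
  obtain ⟨e2, c2, n2⟩ := key y hy hyc hcy
  rcases S.pair x (x * c) y (y * c) hx hxc hy hyc c1 c2 n1 n2 (e1.trans e2.symm) with h | h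
  · rw [h]
  · rw [h]; exact c1

/-- an element commuting with a pair permutes its members -/
theorem pair_perm {g u v : Y} (hu : u ∈ D) (hv : v ∈ D) (huv : Commute u v) (hne : u ≠ v)
    (h : Commute g (u * v)) : g * u * g⁻¹ = u ∨ g * u * g⁻¹ = v := by
  refine S.pair u v _ (g * v * g⁻¹) hu hv (S.H.conjD g u hu) (S.H.conjD g v hv) huv (huv.map (MulAut.conj g))
    hne (fun e => hne (mul_left_cancel (mul_right_cancel e))) ?_
  rw [show g * u * g⁻¹ * (g * v * g⁻¹) = g * (u * v) * g⁻¹ by group, h.eq, mul_inv_cancel_right]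

/-- a member commuting with a pair commutes with its members -/
theorem pair_split {x u v : Y} (hx : x ∈ D) (hu : u ∈ D) (hv : v ∈ D) (huv : Commute u v) (hne : u ≠ v)
    (h : Commute x (u * v)) : Commute x u := by
  rcases S.pair_perm hu hv huv hne h with e | e
  · exact mul_inv_eq_iff_eq_mul.1 e
  refine S.even_comm hx hu ?_
  have h2 : (x * u) ^ 2 = v * u := by
    rw [pow_two, ← e, S.inv hx]; group
  have hvu : v * u ≠ 1 := fun h1 => hne (by
    rw [← S.inv hv]; exact (eq_inv_of_mul_eq_one_left (huv.eq.trans h1)))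
  have h4 : (x * u) ^ 4 = 1 := by
    rw [show 4 = 2 * 2 by norm_num, pow_mul, h2, pow_two, show v * u * (v * u) = v * (u * v) * u by group,
      huv.eq, show v * (v * u) * u = v * v * (u * u) by group, S.sq hu, S.sq hv, one_mul]
  have hd := orderOf_dvd_of_pow_eq_one h4
  have hpos := orderOf_pos (x * u)
  have hle : orderOf (x * u) ≤ 4 := Nat.le_of_dvd (by norm_num) hd
  interval_cases hn : orderOf (x * u)
  · exfalso
    rw [orderOf_eq_one_iff] at hn
    exact hvu (by rw [← h2, hn, one_pow])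
  · exact ⟨1, rfl⟩
  · omega
  · exact ⟨2, rfl⟩

/-- the setwise stabiliser of the component -/
def M : Subgroup Y where
  carrier := {g | ∀ y, y ∈ comp D b → g * y * g⁻¹ ∈ comp D b}
  one_mem' := fun y hy => by simpa using hy
  mul_mem' := fun {g h} hg hh y hy => by
    have := hg _ (hh y hy)
    rwa [show g * (h * y * h⁻¹) * g⁻¹ = g * h * y * (g * h)⁻¹ by group] at this
  inv_mem' := fun {g} hg y hy => by
    refine S.move (u := g * b * g⁻¹) (hg b S.H.mem_comp_self) ?_ hy
    simpa [mul_assoc] using S.H.mem_comp_self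

theorem mem_M {g : Y} : g ∈ S.M ↔ ∀ y, y ∈ comp D b → g * y * g⁻¹ ∈ comp D b := Iff.rfl

theorem le_M : Subgroup.closure (comp D b) ≤ S.M := fun _ hg _ hy => S.H.conj_closure hg hy

theorem move_mem {g u : Y} (hu : u ∈ comp D b) (hg : g * u * g⁻¹ ∈ comp D b) : g ∈ S.M :=
  fun _ hy => S.move hu hg hy

/-- the members stabilising the component lie in it -/
theorem mem_of_M {x : Y} (hx : x ∈ D) (hM : x ∈ S.M) : x ∈ comp D b := by
  by_contra hnot
  have hb := S.H.mem_comp_self
  have hnc : ¬ Commute b x := fun h => hnot (S.H.step hb hx h)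
  set y := x * b * x⁻¹ with hy
  have hyO : y ∈ comp D b := hM b hb
  have ix := S.inv hx
  have ib := S.inv S.H.mem
  have h2 : (x * b) ^ 2 = y * b := by rw [pow_two, hy, ix]; group
  have hyb : ¬ Commute y b := by
    intro hc
    refine hnc (S.even_comm hx S.H.mem ?_).symm
    by_contra ho
    rw [Nat.not_even_iff_odd] at ho
    have h4 : (x * b) ^ 4 = 1 := by
      rw [show 4 = 2 * 2 by norm_num, pow_mul, h2, hc.mul_pow, pow_two, pow_two, S.sq hyO.1, S.sq S.H.mem,
        one_mul]
    have hd := orderOf_dvd_of_pow_eq_one h4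
    have hle : orderOf (x * b) ≤ 4 := Nat.le_of_dvd (by norm_num) hd
    have hpos := orderOf_pos (x * b)
    obtain ⟨l, hl⟩ := ho
    have hl0 : l = 0 := by
      rcases Nat.lt_or_ge l 2 with h | h
      · interval_cases l
        · rfl
        · rw [hl] at hd; norm_num at hd
      · omega
    subst hl0
    rw [Nat.mul_zero, Nat.zero_add, orderOf_eq_one_iff] at hl
    rw [← ib, ← eq_inv_of_mul_eq_one_left hl] at hnc
    exact hnc (Commute.refl _)
  have h3 : (y * b) ^ 3 = 1 := (S.H.braid hyO hb hyb).2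
  have hodd : ¬ Even (orderOf (x * b)) := fun he => hnc (S.even_comm hx S.H.mem he).symm
  have h6 : (x * b) ^ 6 = 1 := by rw [show 6 = 2 * 3 by norm_num, pow_mul, h2, h3]
  have hx3 : (x * b) ^ 3 = 1 := by
    have hd := orderOf_dvd_of_pow_eq_one h6
    have h23 : orderOf (x * b) ∣ 3 := by
      have hcop : Nat.Coprime (orderOf (x * b)) 2 := Nat.coprime_comm.1
        ((Nat.Prime.coprime_iff_not_dvd Nat.prime_two).2 (fun h => hodd (even_iff_two_dvd.2 h)))
      exact hcop.dvd_of_dvd_mul_left (show orderOf (x * b) ∣ 2 * 3 by simpa using hd)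
    exact orderOf_dvd_iff_pow_eq_one.1 h23
  have hxb : x * b = y * b * (y * b) := by
    rw [← h2, ← pow_add, show 2 + 2 = 3 + 1 from rfl, pow_add, hx3, one_mul, pow_one]
  refine hnot ?_
  have e : x = y * b * y⁻¹ := by
    rw [S.inv hyO.1, ← mul_right_cancel_iff (a := b), hxb]
    group
  rw [e]
  exact S.H.conj_comp hyO hb

/-- an element commuting with an involution of the component group stabilises it -/
theorem inv_M {e g : Y} (he : e ∈ Subgroup.closure (comp D b)) (he2 : e * e = 1) (hne : e ≠ 1)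
    (hg : Commute g e) : g ∈ S.M := by
  haveI : Finite ↥(Subgroup.closure (comp D b)) := inferInstance
  obtain ⟨hD, hprim, h22, -, -⟩ := S.H.main S.ker
  obtain ⟨F, iF, iF', ⟨T⟩⟩ := TraceCounts.exists_sys hD hprim h22
  have ho : orderOf (⟨e, he⟩ : ↥(Subgroup.closure (comp D b))) = 2 := by
    haveI : Fact (Nat.Prime 2) := ⟨Nat.prime_two⟩
    exact orderOf_eq_prime (by rw [pow_two]; exact Subtype.ext he2) fun h => hne (congrArg Subtype.val h)
  obtain ⟨m, hm1, hm3, l, hn, hlen, hl, hc, hp⟩ := (InvolutionsM22.three_classes T).1 _ ho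
  have hp' := congrArg Subtype.val hp
  have hval : ∀ {u w : ↥(Subgroup.closure (comp D b))}, Commute u w → Commute (u : Y) w := fun h =>
    h.map (Subgroup.subtype _)
  have hne' : ∀ {u w : ↥(Subgroup.closure (comp D b))}, u ≠ w → (u : Y) ≠ w := fun h e => h (Subtype.ext e)
  interval_cases m
  · obtain ⟨u, rfl⟩ := List.length_eq_one_iff.mp hlen
    have hu : (u : Y) ∈ comp D b := hl u (by simp)
    simp only [List.prod_cons, List.prod_nil, mul_one] at hp'
    refine S.move_mem hu ?_
    rwa [mul_inv_eq_iff_eq_mul.2 (hp' ▸ hg : Commute g (u : Y)).eq]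
  · obtain ⟨u, v, rfl⟩ := List.length_eq_two.mp hlen
    have hu : (u : Y) ∈ comp D b := hl u (by simp)
    have hv : (v : Y) ∈ comp D b := hl v (by simp)
    simp only [List.prod_cons, List.prod_nil, mul_one, Subgroup.coe_mul] at hp'
    refine S.move_mem hu ?_
    rcases S.pair_perm hu.1 hv.1 (hval (hc u (by simp) v (by simp))) (hne' (by simpa using hn))
      (hp' ▸ hg) with h | h <;> rw [h]
    exacts [hu, hv]
  · obtain ⟨u, v, c, rfl⟩ := List.length_eq_three.mp hlen
    simp only [List.nodup_cons, List.mem_cons, List.not_mem_nil, or_false, not_or, List.nodup_nil, and_true,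
      not_false_eq_true] at hn
    simp only [List.prod_cons, List.prod_nil, mul_one, Subgroup.coe_mul] at hp'
    rw [← mul_assoc] at hp'
    exact S.triple u v c (hl u (by simp)) (hl v (by simp)) (hl c (by simp)) (hval (hc u (by simp) v (by simp)))
      (hval (hc u (by simp) c (by simp))) (hval (hc v (by simp) c (by simp))) (hne' hn.1.1) (hne' hn.1.2)
      (hne' hn.2) g (hp' ▸ hg)

theorem exists_far : ∃ d ∈ comp D b, ¬ Commute b d := by
  obtain ⟨a, d, hd, hbd, -⟩ := S.H.exists_off
  exact ⟨d, hd, hbd⟩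

/-- the centraliser of the component is trivial -/
theorem cent_trivial {g : Y} (h : ∀ x ∈ comp D b, Commute g x) : g = 1 := by
  rcases S.ker g (h b S.H.mem_comp_self) (fun x hx => h x (perp_sub_comp hx)) with e | e
  · exact e
  · obtain ⟨d, hd, hbd⟩ := S.exists_far
    exact absurd (e ▸ h d hd) hbd

theorem M_le_normalizer : S.M ≤ Subgroup.normalizer (Subgroup.closure (comp D b) : Set Y) := by
  refine Subgroup.le_normalizer_iff.2 fun g hg x hx => ?_
  induction hx using Subgroup.closure_induction with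
  | mem y hy => exact Subgroup.subset_closure (hg y hy)
  | one => simp
  | mul y w _ _ h1 h2 =>
    rw [show g * (y * w) * g⁻¹ = g * y * g⁻¹ * (g * w * g⁻¹) by group]
    exact mul_mem h1 h2
  | inv y _ h =>
    rw [show g * y⁻¹ * g⁻¹ = (g * y * g⁻¹)⁻¹ by group]
    exact inv_mem h

theorem card_M : Nat.card S.M ≤ 2 * Nat.card ↥(Subgroup.closure (comp D b)) := by
  obtain ⟨-, -, -, hZ, e, -⟩ := S.H.main S.ker
  rw [← FischerAut6.card_aut hZ e.symm]
  haveI : Finite (MulAut ↥(Subgroup.closure (comp D b))) :=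
    Finite.of_injective (fun φ : MulAut ↥(Subgroup.closure (comp D b)) => (φ : _ → _)) DFunLike.coe_injective
  let f := (FischerLarge43.conjAut (Subgroup.closure (comp D b))).comp (Subgroup.inclusion S.M_le_normalizer)
  refine Nat.card_le_card_of_injective f ((injective_iff_map_eq_one f).2 fun g hg => ?_)
  refine Subtype.ext (S.cent_trivial fun x hx => mul_inv_eq_iff_eq_mul.1 ?_)
  exact congrArg Subtype.val (DFunLike.congr_fun hg ⟨x, Subgroup.subset_closure hx⟩)

/-- two elements of the stabiliser outside the component group multiply into it -/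
theorem mul_mem_N {g h : Y} (hg : g ∈ S.M) (hh : h ∈ S.M) (hgN : g ∉ Subgroup.closure (comp D b))
    (hhN : h ∉ Subgroup.closure (comp D b)) : g * h ∈ Subgroup.closure (comp D b) := by
  set N := Subgroup.closure (comp D b)
  have hidx : (N.subgroupOf S.M).index = 2 := by
    have h1 := (N.subgroupOf S.M).card_mul_index
    rw [Nat.card_congr (Subgroup.subgroupOfEquivOfLe S.le_M).toEquiv] at h1
    have h2 := S.card_M
    rw [← h1, mul_comm 2] at h2
    have h3 : (N.subgroupOf S.M).index ≤ 2 := Nat.le_of_mul_le_mul_left h2 Nat.card_pos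
    have h4 : (N.subgroupOf S.M).index ≠ 1 := fun h => hgN (by
      have hm : (⟨g, hg⟩ : S.M) ∈ N.subgroupOf S.M := by
        rw [Subgroup.index_eq_one.1 h]; trivial
      exact hm)
    have h5 : (N.subgroupOf S.M).index ≠ 0 := Subgroup.index_ne_zero_of_finite
    omega
  exact (Subgroup.mul_mem_iff_of_index_two hidx (a := ⟨g, hg⟩) (b := ⟨h, hh⟩)).2
    ⟨fun h => absurd h hgN, fun h => absurd h hhN⟩

/-- a member off the component and a pair inside -/
theorem outer_step {x p q : Y} (hx : x ∈ D) (hxO : x ∉ comp D b) (hp : p ∈ comp D b) (hq : q ∈ comp D b)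
    (hpq : Commute p q) (hne : p ≠ q) :
    Commute x (p * q * x * (p * q)⁻¹) ∧
      x * (p * q * x * (p * q)⁻¹) ∈ S.M ∧ x * (p * q * x * (p * q)⁻¹) ∉ Subgroup.closure (comp D b) := by
  set N := Subgroup.closure (comp D b)
  have hj2 : p * q * (p * q) = 1 := by
    rw [show p * q * (p * q) = p * (q * p) * q by group, ← hpq.eq, show p * (p * q) * q = p * p * (q * q) by
      group, S.sq hp.1, S.sq hq.1, one_mul]
  have hjN : p * q ∈ N := mul_mem (Subgroup.subset_closure hp) (Subgroup.subset_closure hq)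
  have hj1 : p * q ≠ 1 := fun h => hne (by
    rw [← S.inv hq.1]; exact eq_inv_of_mul_eq_one_left h)
  have hjD : p * q ∉ D := S.pair_not p q hp.1 hq.1 hpq hne
  generalize p * q = j at *
  have ij : j⁻¹ = j := inv_eq_of_mul_eq_one_right hj2
  have hjM : ∀ {g}, Commute g j → g ∈ S.M := fun h => S.inv_M hjN hj2 hj1 h
  have hx' : j * x * j⁻¹ ∈ D := S.H.conjD j x hx
  set r := x * j
  have hxM : x ∉ S.M := fun h => hxO (S.mem_of_M hx h)
  have hr : ∀ w : Y, w * r ^ 2 = w * (x * (j * x * j⁻¹)) := fun w => by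
    rw [ij, pow_two]; simp only [r, mul_assoc]
  -- conjugates of the two generators
  have hodd : ∀ l : ℕ, (x * r ^ (2 * l + 1) ∈ D → j ∈ D) ∧ j * r ^ (2 * l + 1) ∈ D := by
    intro l
    have hjr : j * r = r⁻¹ * j := by simp only [r, mul_inv_rev, ij, S.inv hx, mul_assoc]
    have hjp : ∀ m : ℕ, j * r ^ m = (r ^ m)⁻¹ * j := fun m => by
      have h : SemiconjBy j r r⁻¹ := hjr
      rw [(h.pow_right m).eq, inv_pow]
    have hxp : x * r ^ (2 * l + 1) = (r ^ l)⁻¹ * j * (r ^ l)⁻¹⁻¹ := by
      rw [inv_inv, ← hjp, pow_succ', ← mul_assoc x, show x * r = j by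
        simp only [r]; rw [← mul_assoc, S.sq hx, one_mul], mul_assoc, ← pow_add, two_mul]
    refine ⟨fun h => ?_, ?_⟩
    · rw [hxp] at h
      have := S.H.conjD (r ^ l) _ h
      simpa [mul_assoc] using this
    · have : j * r ^ (2 * l + 1) = (r ^ l)⁻¹ * (j * x * j⁻¹) * (r ^ l)⁻¹⁻¹ := by
        rw [inv_inv, show j * x * j⁻¹ = j * r by rw [ij]; simp only [r, mul_assoc], ← mul_assoc _ j,
          ← hjp, mul_assoc, mul_assoc, ← pow_succ', ← pow_add]
        congr 2
        omega
      rw [this]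
      exact S.H.conjD _ _ hx'
  obtain ⟨k, hk⟩ : Even (orderOf r) := by
    by_contra ho
    obtain ⟨l, hl⟩ := Nat.not_even_iff_odd.1 ho
    refine hjD ((hodd l).1 ?_)
    rw [← hl, pow_orderOf_eq_one, mul_one]
    exact hx
  obtain ⟨he2, hex, hej⟩ := central (S.sq hx) hj2 hk
  set e := r ^ k with he
  have he1 : e ≠ 1 := fun h => by
    have hpos := orderOf_pos r
    have := orderOf_le_of_pow_eq_one (show 0 < k by omega) h
    omega
  have heM : e ∈ S.M := hjM hej
  have heN : e ∉ N := fun h => hxM (S.inv_M h he2 he1 hex.symm)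
  rcases Nat.even_or_odd k with ⟨l, hl⟩ | ⟨l, hl⟩
  swap
  · exfalso
    have hjeD : j * e ∈ D := by rw [he, hl]; exact (hodd l).2
    refine heN ((Subgroup.mul_mem_cancel_left _ hjN).1 (Subgroup.subset_closure (S.mem_of_M hjeD ?_)))
    exact mul_mem (S.le_M hjN) heM
  have hr2 : r ^ 2 = x * (j * x * j⁻¹) := by simpa using hr 1
  have hev : Even (orderOf (x * (j * x * j⁻¹))) := by
    rw [← hr2, orderOf_pow' _ (by norm_num), hk, show Nat.gcd (k + k) 2 = 2 from Nat.gcd_eq_right ⟨k, by omega⟩]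
    exact ⟨l, by omega⟩
  have hcomm := S.even_comm hx hx' hev
  refine ⟨hcomm, ?_⟩
  have hl1 : k = 2 := by
    have h4 : r ^ 4 = 1 := by
      rw [show 4 = 2 * 2 by norm_num, pow_mul, hr2, hcomm.mul_pow, pow_two, pow_two, S.sq hx, S.sq hx', one_mul]
    have := Nat.le_of_dvd (by norm_num) (orderOf_dvd_of_pow_eq_one h4)
    have hpos := orderOf_pos r
    omega
  rw [← hr2, ← hl1]
  exact ⟨heM, heN⟩

/-- the class is connected -/
theorem connected {x : Y} (hx : x ∈ D) : x ∈ comp D b := by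
  by_contra hxO
  have hP : ∀ v, Iso1 v → S.H.chart.P v ∈ perp D b := S.H.chart.mem
  have hi0 : Iso1 e0 := by decide +kernel
  have hi1 : Iso1 (![0, 1, 1, 0, 0, 0] : V) := by decide +kernel
  set p := S.H.chart.P e0
  set q := S.H.chart.P (![0, 1, 1, 0, 0, 0] : V)
  have hpq : Commute p q := (S.H.chart.comm _ _ hi0 hi1).2 (by decide +kernel)
  have hne : p ≠ q := fun h => by
    obtain ⟨c, -, e⟩ := (S.H.chart.eq _ _ hi0 hi1).1 h
    have := congrFun e 1
    simp [e0, unit] at this
  have hbp : p ∈ perp D b := hP _ hi0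
  have hbq : q ∈ perp D b := hP _ hi1
  have hb := S.H.mem_comp_self
  obtain ⟨c1, m1, n1⟩ := S.outer_step hx hxO hb (perp_sub_comp hbp) hbp.2.2 (Ne.symm hbp.2.1)
  obtain ⟨c2, m2, n2⟩ := S.outer_step hx hxO hb (perp_sub_comp hbq) hbq.2.2 (Ne.symm hbq.2.1)
  obtain ⟨c3, -, -⟩ := S.outer_step hx hxO (perp_sub_comp hbp) (perp_sub_comp hbq) hpq hne
  set j1 := b * p
  set j2 := b * q
  set y1 := j1 * x * j1⁻¹
  set y2 := j2 * x * j2⁻¹
  have hy1 : y1 ∈ D := S.H.conjD j1 x hx
  have hy2 : y2 ∈ D := S.H.conjD j2 x hx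
  have hj12 : j1⁻¹ * j2 = p * q := by
    simp only [j1, j2, mul_inv_rev, S.inv hbp.1, S.inv S.H.mem]
    rw [mul_assoc, ← mul_assoc b, S.sq S.H.mem, one_mul]
  have hy12 : Commute y1 y2 := by
    have h := c3.map (MulAut.conj j1)
    simp only [MulAut.conj_apply] at h
    rw [show j1 * (p * q * x * (p * q)⁻¹) * j1⁻¹ = y2 by
      rw [← hj12]; simp only [y2]; group] at h
    exact h
  set e := y1 * y2
  have heN : e ∈ Subgroup.closure (comp D b) := by
    have h := S.mul_mem_N m1 m2 n1 n2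
    rwa [show x * y1 * (x * y2) = y1 * y2 by
      rw [c1.eq, mul_assoc, ← mul_assoc x, S.sq hx, one_mul]] at h
  have he1 : e ≠ 1 := fun h => by
    have hy : y1 = y2 := (eq_inv_of_mul_eq_one_left h).trans (S.inv hy2)
    have hc : Commute x (p * q) := by
      rw [← hj12]
      have h' := congrArg (fun t => j1⁻¹ * t * j2) hy
      simp only [y1, y2] at h'
      show x * (j1⁻¹ * j2) = j1⁻¹ * j2 * x
      calc x * (j1⁻¹ * j2) = j1⁻¹ * (j1 * x * j1⁻¹) * j2 := by group
        _ = j1⁻¹ * (j2 * x * j2⁻¹) * j2 := h'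
        _ = _ := by group
    refine hxO (S.mem_of_M hx (S.inv_M (mul_mem (Subgroup.subset_closure (perp_sub_comp hbp))
      (Subgroup.subset_closure (perp_sub_comp hbq))) ?_ (fun h1 => hne ?_) hc))
    · rw [show p * q * (p * q) = p * (q * p) * q by group, ← hpq.eq,
        show p * (p * q) * q = p * p * (q * q) by group, S.sq hbp.1, S.sq hbq.1, one_mul]
    · rw [eq_inv_of_mul_eq_one_left h1, S.inv hbq.1]
  have he2 : e * e = 1 := by
    rw [show e * e = y1 * (y2 * y1) * y2 by simp only [e]; group, ← hy12.eq,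
      show y1 * (y1 * y2) * y2 = y1 * y1 * (y2 * y2) by group, S.sq hy1, S.sq hy2, one_mul]
  exact hxO (S.mem_of_M hx (S.inv_M heN he2 he1 (c1.mul_right c2)))

theorem mem_M_all (g : Y) : g ∈ S.M := fun y hy => S.connected (S.H.conjD g y hy.1)

theorem normal : (Subgroup.closure (comp D b)).Normal :=
  ⟨fun n hn g => (Subgroup.mem_normalizer_iff.1 (S.M_le_normalizer (S.mem_M_all g)) n).1 hn⟩

/-- inside the component group the centraliser of a member is generated by its perp set -/
theorem cent_b {g : Y} (hg : g ∈ Subgroup.closure (comp D b)) (hgb : Commute g b) :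
    g ∈ Subgroup.closure (perp D b) := by
  set N := Subgroup.closure (comp D b)
  haveI : Finite ↥N := inferInstance
  obtain ⟨hD, hprim, h22, -, -⟩ := S.H.main S.ker
  obtain ⟨F, iF, iF', ⟨T⟩⟩ := TraceCounts.exists_sys hD hprim h22
  have hbN : b ∈ N := Subgroup.subset_closure S.H.mem_comp_self
  have hmem : (⟨g, hg⟩ : ↥N) ∈ Subgroup.centralizer ({(⟨b, hbN⟩ : ↥N)} : Set ↥N) :=
    Subgroup.mem_centralizer_singleton_iff.2 (Subtype.ext hgb.eq)
  rw [← StabilizerM22.centralizer_eq T (S.H.mem_comp_self : (⟨b, hbN⟩ : ↥N) ∈ {x : ↥N | (x : Y) ∈ comp D b})]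
    at hmem
  have hle : (Subgroup.closure (perp {x : ↥N | (x : Y) ∈ comp D b} ⟨b, hbN⟩)).map N.subtype ≤
      Subgroup.closure (perp D b) := by
    rw [MonoidHom.map_closure]
    refine Subgroup.closure_mono ?_
    rintro _ ⟨y, hy, rfl⟩
    exact ⟨hy.1.1, fun e => hy.2.1 (Subtype.ext e), hy.2.2.map N.subtype⟩
  exact hle ⟨_, hmem, rfl⟩

end Setting

end Cfsg.Agent.Lib.FischerFi22Large20
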