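import Cfsg.Agent.Lib.FischerFi22Large20.Triple
import Cfsg.Agent.Lib.FischerMTypes.QuasiM22
import Cfsg.Agent.Lib.FischerMTypes.QuasiExtension

/-!
# The centraliser of `t = (3,4)`: quasisimple double cover of Fi22 extended by an outer automorphism

Owner: helper20.
-/

set_option autoImplicit false
set_option linter.style.haveILetI false
set_option linter.unusedSectionVars false
set_option maxRecDepth 100000

namespace Cfsg.Agent.Lib.FischerFi22Large20

open Cfsg.Agent.Lib.LargeFischer13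
open Cfsg.Agent.Lib.FischerLarge43
open Cfsg.Agent.Lib.FischerLarge58
open Cfsg.Agent.Lib.FischerLarge45 (Local zc)
open Cfsg.Agent.Lib.Fi22Core20 (comp)
open Cfsg.Agent.Lib.FischerMTypes.Primitive (perp)
open Cfsg.Agent.Lib.FischerMTypes
open scoped commutatorElement

attribute [local instance] Bridge.acg Bridge.fin Bridge.act

universe u

variable {G : Type u} [Group G] [Finite G] {z : G} {Q : Subgroup (Cz z)} [Q.Normal]
variable {L : Local z Q} (K : Ctx L)

/-- the component group -/
noncomputable abbrev NY : Subgroup (Y K) := Subgroup.closure (comp (DY K) (qy K (K.g 8)))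

theorem exists_outer (M : Model K) : ∃ y : Y K, y ∉ NY K := by
  obtain ⟨g, -, hg⟩ := exists_perm5 K ![3, 4, 10, 7, 13] ![4, 3, 10, 7, 13] (by decide) (by decide)
  obtain ⟨p4, p8, p12, -⟩ := small_states
  have hgT : g ∈ CT K := by
    rw [mem_CT]
    exact (mul_inv_eq_iff_eq_mul.1 (by simpa [p4, pvF_comm 4 3] using hg 0 1)).symm
  have hga : g * K.g 8 * g⁻¹ = K.g 12 := by simpa [p8, p12] using hg 0 2
  refine ⟨qy K g, fun hN => ?_⟩
  have hc : Commute (qy K g) (qy K (K.g 8)) := by
    refine mul_inv_eq_iff_eq_mul.1 ?_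
    rw [← qy_conj K hgT (qy_a_mem K), hga, qy_b]
  have hle : Subgroup.closure (perp (DY K) (qy K (K.g 8))) ≤
      (K.CE.subgroupOf (CT K)).map (QuotientGroup.mk' (TT K)) := by
    refine (Subgroup.closure_le _).2 fun y hy => ?_
    obtain ⟨X, hX, rfl⟩ := inn_point K (comm_a_inn K hy.1 hy.2.2.symm) hy.2.1
    exact ⟨⟨_, inD_a_CT K hX⟩, mul_mem (K.inD_mem hX) (K.g_mem_CE (by norm_num)),
      (qy_eq_mk K (inD_a_CT K hX)).symm⟩
  obtain ⟨⟨w, hw⟩, hwC, he⟩ := hle ((settingY K M).cent_b hN hc)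
  change (QuotientGroup.mk ⟨w, hw⟩ : Y K) = qy K g at he
  rw [← qy_eq_mk K hw, qy_eq K hw hgT] at he
  have hgC : g ∈ K.CE := by
    rcases he with rfl | rfl
    exacts [hwC, mul_mem hwC (K.g_mem_CE (by norm_num))]
  rw [((K.mem_CE.1 hgC).2).symm.eq, mul_inv_cancel_right] at hga
  exact g_ne K (by norm_num) (by norm_num) (show (8 : Nat) ≠ 12 by norm_num) hga

/-- the structure of the centraliser of `(3,4)` -/
theorem cent_structure :
    ∃ Kc : Subgroup (CT K), Kc.Normal ∧ Cfsg.IsQuasisimple ↥Kc ∧ Kc.index = 2 ∧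
      (⟨K.g 4, g_mem_CT K (by norm_num)⟩ : CT K) ∈ Kc ∧ Subgroup.centralizer (Kc : Set (CT K)) ≤ Kc ∧
      Nonempty (Y K ≃* MulAut Cfsg.Spor.Fi22) := by
  obtain ⟨M⟩ := exists_model K
  have S := settingY K M
  haveI hn : (NY K).Normal := S.normal
  obtain ⟨hD, hprim, h22, hZ, e, -⟩ := S.H.main S.ker
  obtain ⟨F, iF, iF', ⟨T⟩⟩ := TraceCounts.exists_sys hD hprim h22
  haveI hsimp : IsSimpleGroup ↥(NY K) := QuasiM22.simple T
  haveI : Finite (MulAut ↥(NY K)) :=
    Finite.of_injective (fun φ : MulAut ↥(NY K) => (φ : _ → _)) DFunLike.coe_injective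
  -- conjugation
  have hinj : Function.Injective (MulAut.conjNormal : Y K →* MulAut ↥(NY K)) := by
    refine (injective_iff_map_eq_one _).2 fun g hg => S.cent_trivial fun x hx => ?_
    have h := congrArg Subtype.val (DFunLike.congr_fun hg (⟨x, Subgroup.subset_closure hx⟩ : ↥(NY K)))
    rw [MulAut.conjNormal_apply] at h
    exact mul_inv_eq_iff_eq_mul.1 h
  have hcard := Nat.card_le_card_of_injective _ hinj
  rw [FischerAut6.card_aut hZ e.symm] at hcard
  obtain ⟨y0, hy0⟩ := exists_outer K M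
  have hidx : (NY K).index = 2 := by
    have h1 := (NY K).card_mul_index
    rw [← h1, mul_comm 2] at hcard
    have h3 : (NY K).index ≤ 2 := Nat.le_of_mul_le_mul_left hcard Nat.card_pos
    have h4 : (NY K).index ≠ 1 := fun h => hy0 (Subgroup.index_eq_one.1 h ▸ Subgroup.mem_top y0)
    have h5 : (NY K).index ≠ 0 := Subgroup.index_ne_zero_of_finite
    omega
  have hbij : Function.Bijective (MulAut.conjNormal : Y K →* MulAut ↥(NY K)) := by
    refine (Nat.bijective_iff_injective_and_card _).2 ⟨hinj, ?_⟩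
    rw [FischerAut6.card_aut hZ e.symm, ← (NY K).card_mul_index, hidx, mul_comm]
  set Kc := (NY K).comap (QuotientGroup.mk' (TT K)) with hKc
  have hKidx : Kc.index = 2 := by
    rw [hKc, Subgroup.index_comap_of_surjective _ (QuotientGroup.mk'_surjective _), hidx]
  have hTK : TT K ≤ Kc := fun x hx => by
    show QuotientGroup.mk' (TT K) x ∈ NY K
    rw [QuotientGroup.mk'_apply, (QuotientGroup.eq_one_iff x).2 hx]
    exact one_mem _
  have ht : (⟨K.g 4, g_mem_CT K (by norm_num)⟩ : CT K) ∈ TT K := (mem_TT K).2 (Or.inr rfl)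
  -- the map onto the component group
  let f : ↥Kc →* ↥(NY K) := ((QuotientGroup.mk' (TT K)).comp Kc.subtype).codRestrict (NY K) fun x => x.2
  have hf : Function.Surjective f := by
    rintro ⟨y, hy⟩
    obtain ⟨x, rfl⟩ := QuotientGroup.mk'_surjective (TT K) y
    exact ⟨⟨x, hy⟩, rfl⟩
  have hker : ∀ x : ↥Kc, f x = 1 ↔ (x : CT K) ∈ TT K := fun x => by
    rw [← QuotientGroup.eq_one_iff (x : CT K)]
    exact Subtype.ext_iff
  have hnc : ∃ x y : ↥(NY K), x * y ≠ y * x := by
    by_contra h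
    push Not at h
    obtain ⟨d, hd, hbd⟩ := S.exists_far
    exact hbd (congrArg Subtype.val (h ⟨_, Subgroup.subset_closure S.H.mem_comp_self⟩
      ⟨d, Subgroup.subset_closure hd⟩))
  have hperfN : commutator ↥(NY K) = ⊤ := by
    refine (Subgroup.Normal.eq_bot_or_eq_top (H := commutator ↥(NY K)) inferInstance).resolve_left fun h => ?_
    obtain ⟨a, b, hab⟩ := hnc
    have hm : ⁅a, b⁆ ∈ commutator ↥(NY K) :=
      Subgroup.commutator_mem_commutator (Subgroup.mem_top a) (Subgroup.mem_top b)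
    rw [h, Subgroup.mem_bot, commutatorElement_eq_one_iff_mul_comm] at hm
    exact hab hm
  -- the centraliser of the four-group lies inside
  let i : ↥K.CE →* CT K := Subgroup.inclusion fun w hw => CE_le_CT K hw
  have hCE : ∀ w : ↥K.CE, i w ∈ Kc := by
    have hle : commutator ↥K.CE ≤ Kc.comap i := by
      rw [commutator_def, Subgroup.commutator_le]
      intro a _ b _
      show i ⁅a, b⁆ ∈ Kc
      rw [map_commutatorElement, commutatorElement_def]
      simp only [Subgroup.mul_mem_iff_of_index_two hKidx, Subgroup.inv_mem_iff]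
      tauto
    intro w
    exact hle (K.quasisimple.1.commutator_eq_top ▸ Subgroup.mem_top w)
  have htC : (⟨⟨K.g 4, g_mem_CT K (by norm_num)⟩, hTK ht⟩ : ↥Kc) ∈ commutator ↥Kc := by
    let j : ↥K.CE →* ↥Kc := i.codRestrict Kc hCE
    have h : (commutator ↥K.CE).map j ≤ commutator ↥Kc := by
      rw [map_commutator_eq]
      exact Subgroup.commutator_mono le_top le_top
    exact h ⟨⟨K.g 4, K.g_mem_CE (by norm_num)⟩, K.quasisimple.1.commutator_eq_top ▸ Subgroup.mem_top _, rfl⟩
  have hperf : commutator ↥Kc = ⊤ := by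
    refine eq_top_iff.2 fun x _ => ?_
    have hmap : (commutator ↥Kc).map f = ⊤ := by
      rw [map_commutator_eq, MonoidHom.range_eq_top.2 hf, ← commutator_def, hperfN]
    obtain ⟨d, hd, ed⟩ := hmap.ge (Subgroup.mem_top (f x))
    have hdx := (hker (d⁻¹ * x)).1 (by rw [map_mul, map_inv, ed, inv_mul_cancel])
    rw [mem_TT] at hdx
    rcases hdx with h | h
    · have : x = d := by
        refine (inv_mul_eq_one.1 (Subtype.ext (Subtype.ext h) : d⁻¹ * x = 1)).symm
      rwa [this]
    · have : x = d * ⟨⟨K.g 4, g_mem_CT K (by norm_num)⟩, hTK ht⟩ :=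
        inv_mul_eq_iff_eq_mul.1 (Subtype.ext (Subtype.ext h) : d⁻¹ * x = _)
      rw [this]
      exact mul_mem hd htC
  have hcen : Subgroup.center ↥Kc = f.ker := by
    ext x
    rw [MonoidHom.mem_ker]
    refine ⟨fun hx => ?_, fun hx => Subgroup.mem_center_iff.2 fun g => Subtype.ext (Subtype.ext ?_)⟩
    · have : f x ∈ Subgroup.center ↥(NY K) := Subgroup.mem_center_iff.2 fun y => by
        obtain ⟨g, rfl⟩ := hf y
        rw [← map_mul, ← map_mul, Subgroup.mem_center_iff.1 hx g]
      rwa [hZ, Subgroup.mem_bot] at this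
    · rcases (mem_TT K).1 ((hker x).1 hx) with h | h
      · show ((g : CT K) : G) * ((x : CT K) : G) = ((x : CT K) : G) * ((g : CT K) : G)
        rw [h, one_mul, mul_one]
      · show ((g : CT K) : G) * ((x : CT K) : G) = ((x : CT K) : G) * ((g : CT K) : G)
        rw [h]
        exact ((mem_CT K).1 g.1.2).eq.symm
  refine ⟨Kc, hn.comap _, ⟨⟨hperf⟩, ?_⟩, hKidx, hTK ht, fun g hg => ?_, ⟨(MulEquiv.ofBijective _ hbij).trans
    (MulAut.congr e.symm)⟩⟩
  · exact ((QuotientGroup.quotientMulEquivOfEq hcen).trans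
      (QuotientGroup.quotientKerEquivOfSurjective f hf)).isSimpleGroup
  · refine hTK ((QuotientGroup.eq_one_iff g).1 (S.cent_trivial fun x hx => ?_))
    obtain ⟨w, rfl⟩ := QuotientGroup.mk_surjective x
    have hw : w ∈ Kc := Subgroup.subset_closure hx
    exact (show Commute w g from Subgroup.mem_centralizer_iff.1 hg w hw).symm.map (QuotientGroup.mk' (TT K))

end Cfsg.Agent.Lib.FischerFi22Large20
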