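import Cfsg.Agent.Lib.FischerFi22Large20.Base
import Cfsg.Agent.Lib.Fi22Core20.Chart

/-!
# The 693 members of the class of `z` in `C(E)` as isotropic vectors

Owner: helper20.
-/

set_option autoImplicit false
set_option linter.style.haveILetI false
set_option linter.unusedSectionVars false
set_option maxRecDepth 100000

namespace Cfsg.Agent.Lib.FischerFi22Large20

open Cfsg.Agent.Lib.LargeFischer13
open Cfsg.Agent.Lib.FischerLarge43
open Cfsg.Agent.Lib.FischerLarge58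
open Cfsg.Agent.Lib.FischerLarge45 (Local zc)
open Cfsg.Agent.Lib.G24 (K4)
open Cfsg.Agent.Lib.FischerUniq91.Coord (V)
open Cfsg.Agent.Lib.FischerUniq91.Checks (J1)
open Cfsg.Agent.Lib.CosetEnum
open Cfsg.Agent.Lib.U62Recog47 (emb pα pβ pv4 emb_proj proj_emb emb_smul herm_emb herm_smul2)
open Cfsg.Agent.Lib.Fi22Core20 (Iso1 tr)

attribute [local instance] Bridge.acg Bridge.fin Bridge.act

/-- a vector in the coordinates of the recognition of U6(2) -/
def to6 (v : V) : Fin 6 → K4 := emb (v 0) ![v 1, v 2, v 3, v 4] (v 5)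

theorem herm_to6 (v w : V) : U62.herm (to6 v) (to6 w) = J1 v w := by
  rw [to6, to6, herm_emb]
  simp only [J1, U62Recog47.h4, Matrix.cons_val_zero, Matrix.cons_val_one, Matrix.cons_val]
  ring

theorem to6_smul (c : K4) (v : V) : to6 (c • v) = c • to6 v := by
  rw [to6, to6, ← emb_smul]
  simp

theorem to6_proj (v : V) : pα (to6 v) = v 0 ∧ pv4 (to6 v) = ![v 1, v 2, v 3, v 4] ∧ pβ (to6 v) = v 5 :=
  proj_emb _ _ _

theorem to6_inj {v w : V} (h : to6 v = to6 w) : v = w := by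
  obtain ⟨a1, b1, c1⟩ := to6_proj v
  obtain ⟨a2, b2, c2⟩ := to6_proj w
  rw [h] at a1 b1 c1
  have hb := b1.symm.trans b2
  funext k
  fin_cases k
  exacts [a1.symm.trans a2, congrFun hb 0, congrFun hb 1, congrFun hb 2, congrFun hb 3, c1.symm.trans c2]

theorem to6_surj (x : Fin 6 → K4) : ∃ v, to6 v = x := by
  refine ⟨![pα x, pv4 x 0, pv4 x 1, pv4 x 2, pv4 x 3, pβ x], ?_⟩
  conv_rhs => rw [← emb_proj x]
  rw [to6]
  congr 1

theorem to6_zero : to6 (0 : V) = 0 := by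
  simpa using to6_smul 0 (0 : V)

theorem to6_tr (v w : V) : to6 (tr v w) = to6 w + J1 w v • to6 v := by
  funext k
  fin_cases k <;> simp [to6, emb, tr] <;> ring

theorem to6_iso {v : V} (hv : Iso1 v) : to6 v ≠ 0 ∧ U62.herm (to6 v) (to6 v) = 0 :=
  ⟨fun h => hv.2 (to6_inj (h.trans to6_zero.symm)), (herm_to6 v v).trans hv.1⟩

open Classical in
/-- the point of an isotropic vector -/
noncomputable def idx (v : V) : Fin 693 :=
  if h : Iso1 v then ⟨U62.ptV (to6 v), (U62.cover _ (to6_iso h).1 (to6_iso h).2).1⟩ else 0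

theorem idx_spec {v : V} (hv : Iso1 v) : ∃ c : K4, c ≠ 0 ∧ c • U62.pv (idx v).1 = to6 v := by
  rw [idx, dif_pos hv]
  exact (U62.cover _ (to6_iso hv).1 (to6_iso hv).2).2

theorem idx_unique {v : V} (hv : Iso1 v) {i : Fin 693} {c : K4} (hc : c ≠ 0) (h : c • U62.pv i.1 = to6 v) :
    idx v = i := by
  rw [idx, dif_pos hv]
  refine Fin.ext ?_
  show U62.ptV (to6 v) = i.1
  rw [← h, U62.ptV_smul i c hc]

theorem idx_surj (i : Fin 693) : ∃ v, Iso1 v ∧ idx v = i := by
  obtain ⟨v, hv⟩ := to6_surj (U62.pv i.1)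
  have hi : Iso1 v := ⟨by rw [← herm_to6, hv]; exact U62.pv_iso i,
    fun h => U62.pv_ne i (by rw [← hv, h, to6_zero])⟩
  exact ⟨v, hi, idx_unique hi one_ne_zero (by rw [one_smul, hv])⟩

theorem idx_eq {v w : V} (hv : Iso1 v) (hw : Iso1 w) :
    idx v = idx w ↔ ∃ c : K4, c ≠ 0 ∧ w = c • v := by
  obtain ⟨c, hc, e⟩ := idx_spec hv
  constructor
  · intro h
    obtain ⟨d, hd, e'⟩ := idx_spec hw
    refine ⟨d * c⁻¹, mul_ne_zero hd (inv_ne_zero hc), to6_inj ?_⟩
    rw [to6_smul, ← e, ← e', h, smul_smul, mul_assoc, inv_mul_cancel₀ hc, mul_one]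
  · rintro ⟨d, hd, rfl⟩
    exact (idx_unique hw (mul_ne_zero hd hc) (by rw [to6_smul, ← e, mul_smul])).symm

theorem idx_herm {v w : V} (hv : Iso1 v) (hw : Iso1 w) :
    U62.herm (U62.pv (idx v).1) (U62.pv (idx w).1) = 0 ↔ J1 v w = 0 := by
  obtain ⟨c, hc, e⟩ := idx_spec hv
  obtain ⟨d, hd, e'⟩ := idx_spec hw
  rw [← herm_to6, ← e, ← e', herm_smul2]
  simp [hc, hd]

theorem idx_tr {v w : V} (hv : Iso1 v) (hw : Iso1 w) :
    idx (tr v w) = U62.σ (U62.trans (U62.pv (idx v).1) (U62.pv_iso (idx v))) (idx w) := by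
  obtain ⟨c, hc, e⟩ := idx_spec hv
  obtain ⟨d, hd, e'⟩ := idx_spec hw
  obtain ⟨-, k, hk, ek⟩ := U62.image_cover (U62.trans (U62.pv (idx v).1) (U62.pv_iso (idx v))) (idx w)
  rw [U62.trans_mulVec] at ek
  refine idx_unique (Fi22Core20.iso_tr hv.1 hw) (mul_ne_zero hd hk) ?_
  rw [to6_tr, ← herm_to6, ← e, ← e', herm_smul2]
  rw [show U62.pv (U62.σ (U62.trans (U62.pv (idx v).1) (U62.pv_iso (idx v))) (idx w)).1 =
      U62.pv (U62.ptV (Matrix.mulVec (U62.matOf (U62.trans (U62.pv (idx v).1) (U62.pv_iso (idx v))))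
        (U62.pv (idx w).1))) from rfl, U62.trans_mulVec, mul_smul, ek, smul_add, smul_smul, smul_smul]
  congr 2
  rw [show ∀ h : K4, d * (c * c) * h * c = d * (c * (c * c)) * h from fun h => by ring,
    Fi22Core20.unit_sq c hc, mul_one]

universe u

variable {G : Type u} [Group G] [Finite G] {z : G} {Q : Subgroup (Cz z)} [Q.Normal]
variable {L : Local z Q} (K : Ctx L)

/-- the members of the class, numbered by the points -/
structure Model where
  el : Fin 693 → G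
  inD : ∀ i, K.InD (el i)
  surj : ∀ X, K.InD X → ∃ i, el i = X
  inj : Function.Injective el
  comm : ∀ i j, Commute (el i) (el j) ↔ U62.herm (U62.pv i.1) (U62.pv j.1) = 0
  conj : ∀ i j, el i * el j * (el i)⁻¹ = el (U62.σ (U62.trans (U62.pv i.1) (U62.pv_iso i)) j)

theorem exists_model : Nonempty (Model K) := by
  obtain ⟨h', x₀, hc⟩ := U62Recog47.Host.exists_centred K.host
  obtain ⟨Co⟩ := h'.exists_coord hc
  have hmem : ∀ i, ∃ X : K.CE, K.InD (X : G) ∧ (QuotientGroup.mk X : K.KE) = Co.pel i := fun i => by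
    have h := U62Recog47.pel_mem Co i
    rw [K.comp_eq] at h
    exact h
  choose X hX eX using hmem
  have uniq : ∀ (W : K.CE), K.InD (W : G) → ∀ i, (QuotientGroup.mk W : K.KE) = Co.pel i → W = X i :=
    fun W hW i e => K.lift_inj hW (hX i) (e.trans (eX i).symm)
  refine ⟨⟨fun i => X i, hX, fun W hW => ?_, fun i j h => U62Recog47.pel_inj Co ?_, fun i j => ?_,
    fun i j => ?_⟩⟩
  · obtain ⟨i, hi⟩ := U62Recog47.pel_surj Co (x := (QuotientGroup.mk ⟨W, K.inD_mem hW⟩ : K.KE))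
      (by rw [K.comp_eq]; exact ⟨_, hW, rfl⟩)
    exact ⟨i, (congrArg Subtype.val (uniq ⟨W, K.inD_mem hW⟩ hW i hi.symm)).symm⟩
  · rw [← eX i, ← eX j, (Subtype.ext h : X i = X j)]
  · rw [← U62Recog47.pel_comm Co i j, ← eX i, ← eX j]
    refine ⟨fun h => ?_, fun h => (K.lift_comm (hX j) h).map K.CE.subtype⟩
    exact (show Commute (X i) (X j) from Subtype.ext h.eq).map (QuotientGroup.mk' K.EC)
  · refine congrArg Subtype.val (uniq (X i * X j * (X i)⁻¹) (K.inD_conj (X i).2 (hX j)) _ ?_)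
    rw [← U62Recog47.pel_conj Co i j, ← eX i, ← eX j]
    rfl

end Cfsg.Agent.Lib.FischerFi22Large20
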