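import Cfsg.Agent.Lib.FischerLarge58.Base
import Cfsg.Agent.Lib.FischerLarge58.StabCard
import Cfsg.Agent.Lib.FischerFi22Large20.Checks
import Cfsg.Agent.Lib.FischerLarge43.Final

/-!
# An involution of `Q` outside the class is conjugate to `(3,4)`

Owner: helper20.
-/

set_option autoImplicit false
set_option linter.style.haveILetI false
set_option linter.unusedSectionVars false
set_option maxRecDepth 100000

namespace Cfsg.Agent.Lib.FischerFi22Large20

open Cfsg.Agent.Lib.LargeFischer13
open Cfsg.Agent.Lib.FischerLarge43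
open Cfsg.Agent.Lib.FischerLarge58
open Cfsg.Agent.Lib.FischerLarge45 (Local zc zc_comm zc_cases)
open Cfsg.Agent.Lib.FischerLarge45.Codes (inU qn)
open Cfsg.Agent.Lib.Golay (ptEquiv)

attribute [local instance] Bridge.acg Bridge.fin Bridge.act

universe u

variable {G : Type u} [Group G] [Finite G] {z : G} {Q : Subgroup (Cz z)} [Q.Normal]
variable {L : Local z Q} (K : Ctx L)

theorem exists_conj_four {t : Cz z} (htQ : t ∈ Q) (ht2 : t * t = 1) (ht1 : t ≠ 1) (htz : ¬ IsConj z (t : G)) :
    ∃ g : G, g * (t : G) * g⁻¹ = K.g 4 := by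
  let p : Q := ⟨t, htQ⟩
  obtain ⟨k, hk, ek⟩ := L.S.E_surj (L.br.π p)
  have hk0 : k ≠ 0 := by
    rintro rfl
    rcases zc_cases L.br ((L.br.π_one).trans ((E_zero L).symm.trans ek)) with h | h
    · exact ht1 h
    · refine htz ?_
      rw [show t = zc z by simpa [p] using h]
  have hq0 : qn k = false := by
    have h : L.br.D.q (L.br.π p) = 0 := (L.br.π_q p).2 (Subtype.ext ht2)
    rw [← ek, L.S.q_E hk, ZMod.natCast_eq_zero_iff_even, Nat.even_iff] at h
    simpa [qn] using h
  have hR : isR k = false := by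
    by_contra h
    rw [Bool.not_eq_false] at h
    exact htz ((class_iff L K.hF p hk hk0 ek.symm).2 ⟨h, ht2⟩)
  have hU : inU k = true := by
    have h := List.all_eq_true.1 singular_inU k (List.mem_range.2 hk)
    simpa [hk0, hq0, hR] using h
  obtain ⟨w, hw⟩ := trans_inU L K.hF hk (by norm_num) hU inU_facts.2.2
  obtain ⟨c, rfl⟩ := QuotientGroup.mk_surjective w
  let p' : Q := ⟨c * t * c⁻¹, Subgroup.Normal.conj_mem inferInstance _ htQ c⟩
  have hp' : L.br.π p' = L.S.E 80 :=
    π_conj_code L c p hk ek.symm (f := L.S.ac (QuotientGroup.mk c)) rfl (q' := p') rfl |>.trans (by rw [hw])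
  let p4 : Q := ⟨sU L 4, L.data.hUQ (sU_mem L (by norm_num))⟩
  have h4 : L.br.π p4 = L.S.E 80 := by
    rw [π_sU L (q := p4) (by norm_num) rfl, e_codes.1]
  have e4 : ((sU L 4 : Cz z) : G) = K.g 4 := by
    show _ = ((K.P.el 4 : Cz z) : G)
    simp [Base.el, Base.eY, zb_zero]
  have ez : ((sU L 4 * zc z : Cz z) : G) = K.g 1028 := by
    show ((sU L 4 : Cz z) : G) * z = _
    rw [e4]
    exact (congrArg (K.g 4 * ·) K.g_z.symm).trans (K.g_xor (by norm_num) (by norm_num)).symm
  rcases zc_cases L.br (h4.trans hp'.symm) with h | h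
  · exact ⟨c, (congrArg Subtype.val h).trans e4⟩
  · haveI := Golay.multiply_pretransitive
    obtain ⟨t4, -, -, t1028, -⟩ := e_states
    obtain ⟨m, -, hm⟩ := K.Pt.transitive (a := K.g 1028) (b := K.g 4) K.g_mem K.g_mem
      (fun h => ((K.mem_tt (by norm_num)).1 t1028).1 (K.g_inj (by norm_num) (by norm_num) (h.trans K.g_zero.symm)))
      (fun h => ((K.mem_tt (by norm_num)).1 t4).1 (K.g_inj (by norm_num) (by norm_num) (h.trans K.g_zero.symm)))
      ((K.mem_tt (by norm_num)).1 t1028).2 ((K.mem_tt (by norm_num)).1 t4).2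
    refine ⟨m * (c : G), ?_⟩
    have hc : (c : G) * t * (c : G)⁻¹ = K.g 1028 := (congrArg Subtype.val h).trans ez
    rw [← hm, ← hc]
    group

end Cfsg.Agent.Lib.FischerFi22Large20
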