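import Cfsg.Agent.Lib.FischerFi22Large20.Model

/-!
# Pairs in the class: unique factors, no other commuting, the chart at the image of `a`

Owner: helper20.
-/

set_option autoImplicit false
set_option linter.style.haveILetI false
set_option linter.unusedSectionVars false
set_option maxRecDepth 100000

namespace Cfsg.Agent.Lib.FischerFi22Large20

open Cfsg.Agent.Lib.LargeFischer13
open Cfsg.Agent.Lib.FischerLarge43
open Cfsg.Agent.Lib.FischerLarge58
open Cfsg.Agent.Lib.FischerLarge45 (Local zc zc_cases)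
open Cfsg.Agent.Lib.FischerLarge45.Model (omega)
open Cfsg.Agent.Lib.G24 (K4)
open Cfsg.Agent.Lib.FischerUniq91.Coord (V)
open Cfsg.Agent.Lib.FischerUniq91.Checks (J1 e0)
open Cfsg.Agent.Lib.Fi22Core20 (Iso1 tr)
open Cfsg.Agent.Lib.FischerMTypes.Primitive (perp)

attribute [local instance] Bridge.acg Bridge.fin Bridge.act

universe u

variable {G : Type u} [Group G] [Finite G] {z : G} {Q : Subgroup (Cz z)} [Q.Normal]
variable {L : Local z Q} (K : Ctx L)

theorem z_mem_CT : z ∈ CT K := CE_le_CT K K.z_mem_CE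

theorem z_mul_a : z * K.g 8 = K.g 1032 :=
  (congrArg (· * K.g 8) K.g_z.symm).trans (K.g_xor (show 1024 < 2048 by norm_num) (by norm_num)).symm

theorem z_mul_b : z * K.g 12 = K.g 1036 :=
  (congrArg (· * K.g 12) K.g_z.symm).trans (K.g_xor (show 1024 < 2048 by norm_num) (by norm_num)).symm

theorem zt_not_conj : ¬ IsConj z (z * K.g 4) := by
  have h : z * K.g 4 = K.g 1028 :=
    (congrArg (· * K.g 4) K.g_z.symm).trans (K.g_xor (show 1024 < 2048 by norm_num) (by norm_num)).symm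
  rw [h]
  exact ((K.mem_tt (by norm_num)).1 e_states.2.2.2.1).2

theorem za_dl : Dl K (K.g 1032) := by
  obtain ⟨g, -, hg⟩ := exists_perm5 K ![3, 4, 10, 7, 13] ![4, 3, 7, 10, 13] (by decide) (by decide)
  obtain ⟨p4, p10, -, -, p47, -⟩ := small_states
  have e4 : g * K.g 4 * g⁻¹ = K.g 4 := by
    have h := hg 0 1
    simpa [p4, pvF_comm 4 3] using h
  refine ⟨g, (mem_CT K).2 (mul_inv_eq_iff_eq_mul.1 e4).symm, Or.inl ?_⟩
  have h := hg 0 2
  simpa [p10, p47] using h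

theorem inD_a_comm {X : G} (hX : K.InD X) : Commute X (K.g 8) :=
  ((K.mem_CE.1 (K.inD_mem hX)).2).symm

theorem inD_dl {X : G} (hX : K.InD X) : Dl K (X * K.g 8) := by
  obtain ⟨c, hc, rfl⟩ := hX
  rw [show c * z * c⁻¹ * K.g 8 = c * (z * K.g 8) * c⁻¹ by
    rw [mul_assoc _ c⁻¹, ((K.mem_CE.1 (inv_mem hc)).2).symm.eq]; group, z_mul_a]
  exact dl_conj K (CE_le_CT K hc) (za_dl K)

/-- the point of a member of the class -/
noncomputable def pX (X : G) : Y K := qy K (X * K.g 8)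

theorem inD_a_CT {X : G} (hX : K.InD X) : X * K.g 8 ∈ CT K := dl_mem K (inD_dl K hX)

theorem pX_mem {X : G} (hX : K.InD X) : pX K X ∈ DY K := (mem_DY K (inD_a_CT K hX)).2 (inD_dl K hX)

theorem pX_inj {X X' : G} (hX : K.InD X) (hX' : K.InD X') : pX K X = pX K X' ↔ X = X' := by
  refine ⟨fun h => ?_, fun h => h ▸ rfl⟩
  rw [pX, pX, qy_eq K (inD_a_CT K hX) (inD_a_CT K hX')] at h
  rcases h with h | h
  · exact (mul_right_cancel h).symm
  · refine K.inD_unique hX hX' ⟨4, by simp [eL], ?_⟩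
    rw [mul_assoc, (K.g_comm (by norm_num) (by norm_num) : Commute (K.g 8) (K.g 4)).eq, ← mul_assoc] at h
    rw [mul_right_cancel h, inv_mul_cancel_left]

theorem pX_conj_CE {X c : G} (hX : K.InD X) (hc : c ∈ K.CE) :
    pX K (c * X * c⁻¹) = qy K c * pX K X * (qy K c)⁻¹ := by
  rw [pX, pX, ← qy_conj K (CE_le_CT K hc) (inD_a_CT K hX),
    mul_assoc _ c⁻¹, ((K.mem_CE.1 (inv_mem hc)).2).symm.eq]
  group

theorem pX_conj {X X' : G} (hX : K.InD X) (hX' : K.InD X') :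
    pX K X * pX K X' * (pX K X)⁻¹ = pX K (X * X' * X⁻¹) := by
  rw [pX, pX, pX, ← qy_conj K (inD_a_CT K hX) (inD_a_CT K hX')]
  congr 1
  rw [mul_inv_rev, K.g_inv (by norm_num)]
  calc X * K.g 8 * (X' * K.g 8) * (K.g 8 * X⁻¹) = X * (K.g 8 * X') * (K.g 8 * K.g 8) * X⁻¹ := by group
    _ = X * X' * (K.g 8 * X⁻¹) := by rw [K.g_sq (by norm_num), ← (inD_a_comm K hX').eq]; group
    _ = _ := by rw [← (inD_a_comm K hX).inv_left.eq]; group

theorem pX_comm {X X' : G} (hX : K.InD X) (hX' : K.InD X') :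
    Commute (pX K X) (pX K X') ↔ Commute X X' := by
  rw [commute_iff_eq, commute_iff_eq, ← mul_inv_eq_iff_eq_mul, ← mul_inv_eq_iff_eq_mul, pX_conj K hX hX',
    pX_inj K (K.inD_conj (K.inD_mem hX) hX') hX']

theorem qy_a_mem : K.g 8 ∈ CT K := g_mem_CT K (by norm_num)

theorem pX_comm_a {X : G} (hX : K.InD X) : Commute (qy K (K.g 8)) (pX K X) := by
  rw [pX, commute_iff_eq, ← qy_mul K (qy_a_mem K) (inD_a_CT K hX), ← qy_mul K (inD_a_CT K hX) (qy_a_mem K)]
  congr 1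
  rw [← mul_assoc, ← (inD_a_comm K hX).eq]

theorem pX_ne_a {X : G} (hX : K.InD X) : pX K X ≠ qy K (K.g 8) := by
  intro h
  rw [pX, qy_eq K (inD_a_CT K hX) (qy_a_mem K)] at h
  have hXE : X ∈ K.EG := by
    rcases h with h | h
    · rw [show X = 1 from mul_eq_right.1 h.symm]; exact one_mem _
    · rw [mul_assoc, (K.g_comm (by norm_num) (by norm_num) : Commute (K.g 8) (K.g 4)).eq, ← mul_assoc] at h
      have : X = K.g 4 := by
        rw [← inv_eq_of_mul_eq_one_left (mul_eq_right.1 h.symm), K.g_inv (by norm_num)]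
      exact this ▸ ⟨4, by simp [eL], rfl⟩
  exact EG_not_conj K hXE (K.inD_isConj hX)

theorem qy_a_mul_pX {X : G} (hX : K.InD X) : qy K (K.g 8) * pX K X = qy K X := by
  rw [pX, ← qy_mul K (qy_a_mem K) (inD_a_CT K hX)]
  congr 1
  rw [(inD_a_comm K hX).eq, ← mul_assoc, K.g_sq (by norm_num), one_mul]

theorem qy_z_conj {g : Y K} (h : g * qy K z * g⁻¹ = qy K z) :
    ∃ k ∈ CT K, qy K k = g ∧ k * z = z * k := by
  obtain ⟨k, hk, rfl⟩ := qy_surj K g
  rw [← qy_conj K hk (z_mem_CT K), qy_eq K (mul_mem (mul_mem hk (z_mem_CT K)) (inv_mem hk)) (z_mem_CT K)] at h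
  refine ⟨k, hk, rfl, mul_inv_eq_iff_eq_mul.1 (h.elim Eq.symm fun e => ?_)⟩
  exfalso
  refine zt_not_conj K ?_
  rw [show z * K.g 4 = k * z * k⁻¹ from
    (congrArg (· * K.g 4) e).trans (by rw [mul_assoc, t_sq K, mul_one])]
  exact isConj_iff.2 ⟨k, rfl⟩

/-- the centraliser of `t` and `z` keeps `{a, b, az, bz}` -/
theorem core {k : G} (hk : k ∈ CT K) (hz : k * z = z * k) :
    qy K (k * K.g 8 * k⁻¹) = qy K (K.g 8) ∨ qy K (k * K.g 8 * k⁻¹) = qy K (K.g 1032) := by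
  set c : Cz z := ⟨k, Subgroup.mem_centralizer_singleton_iff.2 hz⟩
  obtain ⟨e80, e160, e240, -, w80, w160⟩ := e_codes
  let p4 : Q := ⟨sU L 4, L.data.hUQ (sU_mem L (by norm_num))⟩
  let p8 : Q := ⟨sU L 8, L.data.hUQ (sU_mem L (by norm_num))⟩
  let p12 : Q := ⟨sU L 12, L.data.hUQ (sU_mem L (by norm_num))⟩
  have h80 : L.S.ac (QuotientGroup.mk c) 80 = 80 := by
    refine L.S.E_inj (L.S.ac_lt _ _) (by norm_num) ?_
    rw [L.S.E_ac, ← e80, ← π_sU L (q := p4) (by norm_num) rfl]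
    refine L.br.π_conj c p4 p4 (Subtype.ext ?_)
    show ((sU L 4 : Cz z) : G) = k * ((sU L 4 : Cz z) : G) * k⁻¹
    rw [← K.el_line.1]
    exact (conj_t K hk).symm
  have h160 : L.S.ac (QuotientGroup.mk c) 160 = 160 ∨ L.S.ac (QuotientGroup.mk c) 160 = 240 := by
    rcases ac_omega_or L (QuotientGroup.mk c) with h | h
    · left
      have := h 80 (by norm_num)
      rwa [h80, w80] at this
    · right
      have := h 80 (by norm_num)
      rwa [h80, w80, w160] at this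
  let q : Q := ⟨c * sU L 8 * c⁻¹, Subgroup.Normal.conj_mem inferInstance _ p8.2 c⟩
  have hq : L.br.π q = L.S.E (L.S.ac (QuotientGroup.mk c) 160) :=
    π_conj_code L c p8 (by norm_num) (by rw [← e160]; exact π_sU L (by norm_num) rfl)
      (f := L.S.ac (QuotientGroup.mk c)) rfl rfl
  have e8 : ((sU L 8 : Cz z) : G) = K.g 8 := by rw [← K.el_line.2]
  have e12 : ((sU L 12 : Cz z) : G) = K.g 12 := by
    show _ = ((K.P.el 12 : Cz z) : G)
    simp [Base.el, Base.eY, zb_zero]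
  have hkq : ((q : Cz z) : G) = k * K.g 8 * k⁻¹ := by
    show k * ((sU L 8 : Cz z) : G) * k⁻¹ = _
    rw [e8]
  have hb : qy K (z * K.g 12) = qy K (K.g 1032) := by
    rw [qy_mul K (z_mem_CT K) (g_mem_CT K (by norm_num)), qy_b, ← qy_mul K (z_mem_CT K) (qy_a_mem K),
      z_mul_a]
  rcases h160 with h | h <;> rw [h] at hq
  · rcases zc_cases L.br ((π_sU L (q := p8) (by norm_num) rfl).trans ((congrArg L.S.E e160).trans hq.symm))
      with e | e <;> rw [← hkq]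
    · left; rw [e, show ((p8 : Cz z) : G) = K.g 8 from e8]
    · right
      rw [e, show (((p8 : Cz z) * zc z : Cz z) : G) = K.g 8 * z from by rw [← e8]; rfl,
        ← (K.mem_CE.1 K.z_mem_CE).2.symm.eq, z_mul_a]
  · rcases zc_cases L.br ((π_sU L (q := p12) (by norm_num) rfl).trans ((congrArg L.S.E e240).trans hq.symm))
      with e | e <;> rw [← hkq]
    · left; rw [e, show ((p12 : Cz z) : G) = K.g 12 from e12, qy_b]
    · right
      rw [e, show (((p12 : Cz z) * zc z : Cz z) : G) = K.g 12 * z from by rw [← e12]; rfl,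
        (K.e_comm K.z_mem_CE ⟨12, by simp [eL], rfl⟩).eq, hb]

/-! ## Inner pairs -/

/-- two members with commuting representatives -/
def Inn (u v : Y K) : Prop :=
  u ∈ DY K ∧ v ∈ DY K ∧ ∀ x ∈ CT K, ∀ y ∈ CT K, qy K x = u → qy K y = v → Commute x y

theorem inn_of {x y : G} (hx : x ∈ CT K) (hy : y ∈ CT K) (hu : qy K x ∈ DY K) (hv : qy K y ∈ DY K)
    (h : Commute x y) : Inn K (qy K x) (qy K y) := by
  refine ⟨hu, hv, fun x' hx' y' hy' ex ey => ?_⟩
  have ht : ∀ {w}, w ∈ CT K → Commute (K.g 4) w := fun hw => (mem_CT K).1 hw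
  rcases (qy_eq K hx hx').1 ex.symm with rfl | rfl <;> rcases (qy_eq K hy hy').1 ey.symm with rfl | rfl
  · exact h
  · exact h.mul_right (ht hx).symm
  · exact h.mul_left (ht hy)
  · exact (h.mul_right (ht hx).symm).mul_left ((ht hy).mul_right (Commute.refl _))

theorem inn_symm {u v : Y K} (h : Inn K u v) : Inn K v u :=
  ⟨h.2.1, h.1, fun x hx y hy ex ey => (h.2.2 y hy x hx ey ex).symm⟩

theorem inn_conj {u v : Y K} (g : Y K) (h : Inn K u v) : Inn K (g * u * g⁻¹) (g * v * g⁻¹) := by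
  obtain ⟨k, hk, rfl⟩ := qy_surj K g
  obtain ⟨x, hx, rfl⟩ := qy_surj K u
  obtain ⟨y, hy, rfl⟩ := qy_surj K v
  rw [← qy_conj K hk hx, ← qy_conj K hk hy]
  refine inn_of K (mul_mem (mul_mem hk hx) (inv_mem hk)) (mul_mem (mul_mem hk hy) (inv_mem hk)) ?_ ?_
    ((h.2.2 x hx y hy rfl rfl).map (MulAut.conj k))
  · rw [qy_conj K hk hx]; exact DY_conj K _ h.1
  · rw [qy_conj K hk hy]; exact DY_conj K _ h.2.1

theorem inn_a_pX {X : G} (hX : K.InD X) : Inn K (qy K (K.g 8)) (pX K X) :=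
  inn_of K (qy_a_mem K) (inD_a_CT K hX) (ya_mem K) (pX_mem K hX)
    ((inD_a_comm K hX).symm.mul_right (Commute.refl _))

theorem inn_pX {X X' : G} (hX : K.InD X) (hX' : K.InD X') (h : Commute X X') :
    Inn K (pX K X) (pX K X') :=
  inn_of K (inD_a_CT K hX) (inD_a_CT K hX') (pX_mem K hX) (pX_mem K hX')
    ((h.mul_right (inD_a_comm K hX)).mul_left ((inD_a_comm K hX').symm.mul_right (Commute.refl _)))

/-- a member commuting inwardly with `a` is a point -/
theorem inn_point {v : Y K} (h : Inn K (qy K (K.g 8)) v) (hne : v ≠ qy K (K.g 8)) :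
    ∃ X, K.InD X ∧ v = pX K X := by
  obtain ⟨w, hw, rfl⟩ := qy_surj K v
  have hd := (mem_DY K hw).1 h.2.1
  have hwC : w ∈ K.CE := K.mem_CE.2 ⟨(mem_CT K).1 hw, h.2.2 _ (qy_a_mem K) _ hw rfl rfl⟩
  have hE : w ∉ K.EG := by
    intro he
    obtain ⟨n, hn, rfl⟩ := K.mem_EG.1 he
    simp only [eL, List.mem_cons, List.not_mem_nil, or_false] at hn
    rcases hn with rfl | rfl | rfl | rfl
    · exact dl_qy_ne_one K hd (by rw [K.g_zero, qy_one])
    · exact dl_qy_ne_one K hd (qy_t K)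
    · exact hne rfl
    · exact hne (qy_b K)
  obtain ⟨X, hX, e | e⟩ := classify K hwC hE (dl_sq K hd) (dl_not_conj K hd) (dl_not_conj K (dl_mul_t K hd))
  · exact ⟨X, hX, by rw [e]; rfl⟩
  · refine ⟨X, hX, ?_⟩
    rw [e, ← g_four_eight K, ← mul_assoc, qy_mul_t K (inD_a_CT K hX)]
    rfl

theorem pX_z : pX K z = qy K (K.g 1032) := by rw [pX, z_mul_a]

/-- the factors of `z` -/
theorem pair_z {u v : Y K} (h : Inn K u v) (hne : u ≠ v) (e : u * v = qy K z) :
    u = qy K (K.g 8) ∨ v = qy K (K.g 8) := by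
  obtain ⟨g, rfl⟩ := h.1
  have h' := inn_conj K g⁻¹ h
  rw [show g⁻¹ * (g * qy K (K.g 8) * g⁻¹) * g⁻¹⁻¹ = qy K (K.g 8) by group] at h'
  obtain ⟨X, hX, ev⟩ := inn_point K h' fun e' => hne (by rw [← e']; group)
  obtain ⟨c, hc, rfl⟩ := hX
  have hXd : K.InD (c * z * c⁻¹) := K.inD_conj hc K.inD_z
  set y := g * qy K c
  have hy : y * qy K z * y⁻¹ = qy K z := by
    rw [mul_inv_rev, show g * qy K c * qy K z * ((qy K c)⁻¹ * g⁻¹) = g * (qy K c * qy K z * (qy K c)⁻¹) * g⁻¹ by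
      group, ← qy_conj K (CE_le_CT K hc) (z_mem_CT K), ← qy_a_mul_pX K hXd, ← ev, ← e]
    group
  obtain ⟨k, hk, ek, hkz⟩ := qy_z_conj K hy
  have hfix : qy K c * qy K (K.g 8) * (qy K c)⁻¹ = qy K (K.g 8) := by
    rw [← qy_conj K (CE_le_CT K hc) (qy_a_mem K), ((K.mem_CE.1 hc).2).symm.eq, mul_inv_cancel_right]
  have hu : g * qy K (K.g 8) * g⁻¹ = qy K (k * K.g 8 * k⁻¹) := by
    rw [qy_conj K hk (qy_a_mem K), ek, mul_inv_rev]
    conv_lhs => rw [← hfix]
    simp only [y]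
    group
  rcases core K hk hkz with hc' | hc'
  · exact Or.inl (hu.trans hc')
  · right
    have hv : v = (g * qy K (K.g 8) * g⁻¹)⁻¹ * qy K z := by rw [← e, inv_mul_cancel_left]
    rw [hv, hu, hc', ← z_mul_a, qy_mul K (z_mem_CT K) (qy_a_mem K), mul_inv_rev, mul_assoc,
      inv_mul_cancel, mul_one]
    exact inv_eq_of_mul_eq_one_right (DY_sq K (ya_mem K))

theorem state_pair {m : Nat} (hm : m < 2048) (hme : m ∉ eL) (h1 : IsConj z (K.g m))
    (h2 : ¬ IsConj z (K.g m * K.g 4)) :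
    ∃ r s, Inn K r s ∧ r ≠ s ∧ r * s = qy K (K.g m) ∧ Inn K (qy K (K.g 8)) r ∧ Inn K (qy K (K.g 8)) s := by
  obtain ⟨h0, t1⟩ := (K.conj_iff hm).1 h1
  have h4 : m ^^^ 4 < 2048 := Nat.xor_lt_two_pow (n := 11) hm (by norm_num)
  have t2 : ttM.testBit (m ^^^ 4) = true := by
    refine (K.mem_tt h4).2 ⟨fun h => hme (by rw [Nat.xor_eq_zero_iff.1 h]; simp [eL]), ?_⟩
    rwa [K.g_xor hm (by norm_num)]
  have hlt : ∀ m ∈ ptsL, m < 2048 := by decide
  have hcase := List.all_eq_true.1 four_split m (List.mem_range.2 hm)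
  have hcf : eL.contains m = false := by simpa using hme
  simp only [t1, t2, hcf, Bool.not_false, Bool.and_self, Bool.not_true, Bool.false_or, Bool.or_eq_true,
    List.any_eq_true, Bool.and_eq_true, bne_iff_ne, ne_eq, beq_iff_eq] at hcase
  rcases hcase with h | ⟨a, ha, b, hb, hab, h⟩
  · rw [← ptsM_ok, FischerLarge58.list_mask] at h
    have hX := K.pts_inD h
    exact ⟨_, _, inn_a_pX K hX, (pX_ne_a K hX).symm, qy_a_mul_pX K hX,
      inn_of K (qy_a_mem K) (qy_a_mem K) (ya_mem K) (ya_mem K) (Commute.refl _), inn_a_pX K hX⟩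
  · have hA := K.pts_inD ha
    have hB := K.pts_inD hb
    refine ⟨_, _, inn_pX K hA hB (K.g_comm (hlt a ha) (hlt b hb)),
      fun e => hab (K.g_inj (hlt a ha) (hlt b hb) ((pX_inj K hA hB).1 e)), ?_, inn_a_pX K hA, inn_a_pX K hB⟩
    have hAC := g_mem_CT K (hlt a ha)
    have hBC := g_mem_CT K (hlt b hb)
    have hprod : pX K (K.g a) * pX K (K.g b) = qy K (K.g (a ^^^ b)) := by
      rw [pX, pX, ← qy_mul K (inD_a_CT K hA) (inD_a_CT K hB), K.g_xor (hlt a ha) (hlt b hb),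
        ← (inD_a_comm K hB).symm.eq, mul_assoc (K.g a), ← mul_assoc (K.g 8), K.g_sq (by norm_num), one_mul]
    rw [hprod, qy_eq K (g_mem_CT K (Nat.xor_lt_two_pow (n := 11) (hlt a ha) (hlt b hb))) (g_mem_CT K hm),
      ← K.g_xor (Nat.xor_lt_two_pow (n := 11) (hlt a ha) (hlt b hb)) (by norm_num)]
    rw [Nat.xor_assoc] at h
    rcases h with h | h
    · exact Or.inl (congrArg K.g (Nat.xor_eq_zero_iff.1 h))
    · refine Or.inr (congrArg K.g ?_)
      rw [← h, Nat.xor_comm m, ← Nat.xor_assoc, Nat.xor_self, Nat.zero_xor]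

/-- members commute only inwardly -/
theorem comm_a_inn {x : Y K} (hx : x ∈ DY K) (h : Commute x (qy K (K.g 8))) :
    Inn K (qy K (K.g 8)) x := by
  obtain ⟨w, hw, rfl⟩ := qy_surj K x
  rcases (qy_comm_iff K hw (qy_a_mem K)).1 h with e | e
  · exact inn_of K (qy_a_mem K) hw (ya_mem K) hx (mul_inv_eq_iff_eq_mul.1 e).symm
  exfalso
  rw [g_four_eight] at e
  have hd := (mem_DY K hw).1 hx
  have hNE : NE K w := ⟨hw, Or.inr e⟩
  obtain ⟨X, ⟨c, hc, rfl⟩, hwX⟩ := exists_fixed K (dl_sq K hd) fun X hX => NE_inD K hNE hX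
  set w' := c⁻¹ * w * c with hw'def
  have hci : c⁻¹ ∈ CT K := inv_mem (CE_le_CT K hc)
  have hw' : w' ∈ CT K := mul_mem (mul_mem hci hw) (CE_le_CT K hc)
  have hd' : Dl K w' := by simpa [hw'def] using dl_conj K hci hd
  have hw'z : w' * z = z * w' := by
    have h := congrArg (fun x => c⁻¹ * x * c) hwX.eq
    simpa [hw'def, mul_assoc] using h
  have e' : w' * K.g 8 * w'⁻¹ = K.g 12 := by
    rw [hw'def, show c⁻¹ * w * c * K.g 8 * (c⁻¹ * w * c)⁻¹ = c⁻¹ * (w * (c * K.g 8 * c⁻¹) * w⁻¹) * c by group,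
      ← ((K.mem_CE.1 hc).2).eq, mul_inv_cancel_right, e, mul_assoc,
      (K.e_comm hc ⟨12, by simp [eL], rfl⟩).eq, inv_mul_cancel_left]
  obtain ⟨k, hk, hkw⟩ := hd'
  set z' := k⁻¹ * z * k with hz'
  have hz'C : z' ∈ K.CE := by
    have hkz : ∀ n, k * K.g n * k⁻¹ = w' → Commute (K.g n) z' := by
      intro n hn
      rw [← hn] at hw'z
      have h := congrArg (fun x => k⁻¹ * x * k) hw'z
      simpa [commute_iff_eq, hz', mul_assoc] using h
    have ht : Commute (K.g 4) z' :=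
      (mem_CT K).1 (mul_mem (mul_mem (inv_mem hk) (z_mem_CT K)) hk)
    refine K.mem_CE.2 ⟨ht, ?_⟩
    rcases hkw with h | h
    · exact hkz 8 h
    · rw [← g_four_twelve K]; exact (hkz 12 h).mul_left ht
  have hzc : IsConj z z' := isConj_iff.2 ⟨k⁻¹, by rw [hz', inv_inv]⟩
  have hzt : ¬ IsConj z (z' * K.g 4) := by
    rw [← conj_t K (inv_mem hk), hz', inv_inv,
      show k⁻¹ * z * k * (k⁻¹ * K.g 4 * k) = k⁻¹ * (z * K.g 4) * k⁻¹⁻¹ by group, isConj_conj]
    exact zt_not_conj K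
  have hz2 : z' * z' = 1 := by
    have h := K.g_sq (show 1024 < 2048 by norm_num)
    rw [K.g_z] at h
    rw [hz', show k⁻¹ * z * k * (k⁻¹ * z * k) = k⁻¹ * (z * z) * k by group, h, mul_one, inv_mul_cancel]
  obtain ⟨c', hc', m, hm, hme, em⟩ := to_state K hz'C (fun h => EG_not_conj K h hzc) hz2
  obtain ⟨r, s, hrs, hne, hprod, har, has⟩ := state_pair K hm hme (em ▸ (isConj_conj c' z').2 hzc) (by
    rw [← em, ← mul_inv_eq_iff_eq_mul.2 (K.e_comm hc' ⟨4, by simp [eL], rfl⟩).eq.symm,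
      show c' * z' * c'⁻¹ * (c' * K.g 4 * c'⁻¹) = c' * (z' * K.g 4) * c'⁻¹ by group, isConj_conj]
    exact hzt)
  have hkc : k * c'⁻¹ ∈ CT K := mul_mem hk (inv_mem (CE_le_CT K hc'))
  set y := qy K (k * c'⁻¹) with hy
  have hya : y * qy K (K.g 8) * y⁻¹ = qy K w' := by
    rw [hy, ← qy_conj K hkc (qy_a_mem K)]
    have hca : c'⁻¹ * K.g 8 * c' = K.g 8 := by
      rw [((K.mem_CE.1 (inv_mem hc')).2).symm.eq, inv_mul_cancel_right]
    rw [show k * c'⁻¹ * K.g 8 * (k * c'⁻¹)⁻¹ = k * (c'⁻¹ * K.g 8 * c') * k⁻¹ by group, hca]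
    rcases hkw with h | h
    · rw [h]
    · rw [qy_conj K hk (qy_a_mem K), ← qy_b K, ← qy_conj K hk (g_mem_CT K (by norm_num)), h]
  have hyz : y * r * y⁻¹ * (y * s * y⁻¹) = qy K z := by
    rw [show y * r * y⁻¹ * (y * s * y⁻¹) = y * (r * s) * y⁻¹ by group, hprod, hy,
      ← qy_conj K hkc (g_mem_CT K hm), ← em, hz']
    congr 1
    group
  have hinn : Inn K (qy K w') (qy K (K.g 8)) := by
    rw [← hya]
    rcases pair_z K (inn_conj K y hrs) (fun h => hne (mul_left_cancel (mul_right_cancel h))) hyz with h | h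
    · conv_rhs => rw [← h]
      exact inn_conj K y har
    · conv_rhs => rw [← h]
      exact inn_conj K y has
  have hcomm := hinn.2.2 w' hw' _ (qy_a_mem K) rfl rfl
  rw [hcomm.eq, mul_inv_cancel_right] at e'
  exact g_ne K (by norm_num) (by norm_num) (show (8 : Nat) ≠ 12 by norm_num) e'

theorem commute_inn {x y : Y K} (hx : x ∈ DY K) (hy : y ∈ DY K) (h : Commute x y) : Inn K x y := by
  obtain ⟨g, rfl⟩ := hx
  have h' : Commute (g⁻¹ * y * g⁻¹⁻¹) (qy K (K.g 8)) := by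
    have := (h.map (MulAut.conj g⁻¹)).symm
    simpa [mul_assoc] using this
  have := inn_conj K g (comm_a_inn K (DY_conj K g⁻¹ hy) h')
  rwa [show g * (g⁻¹ * y * g⁻¹⁻¹) * g⁻¹ = y by group] at this

/-- the factors of a pair -/
theorem pair_unique {u v x y : Y K} (hu : u ∈ DY K) (hv : v ∈ DY K) (hx : x ∈ DY K) (hy : y ∈ DY K)
    (huv : Commute u v) (hxy : Commute x y) (nuv : u ≠ v) (nxy : x ≠ y) (e : u * v = x * y) :
    x = u ∨ x = v := by
  have h := commute_inn K hu hv huv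
  obtain ⟨g, rfl⟩ := hu
  have h' := inn_conj K g⁻¹ h
  rw [show g⁻¹ * (g * qy K (K.g 8) * g⁻¹) * g⁻¹⁻¹ = qy K (K.g 8) by group] at h'
  obtain ⟨X, hX, ev⟩ := inn_point K h' fun e' => nuv (by rw [← e']; group)
  obtain ⟨c, hc, rfl⟩ := hX
  have hXd : K.InD (c * z * c⁻¹) := K.inD_conj hc K.inD_z
  set k := g * qy K c with hk
  have hfix : qy K c * qy K (K.g 8) * (qy K c)⁻¹ = qy K (K.g 8) := by
    rw [← qy_conj K (CE_le_CT K hc) (qy_a_mem K), ((K.mem_CE.1 hc).2).symm.eq, mul_inv_cancel_right]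
  have hku : k * qy K (K.g 8) * k⁻¹ = g * qy K (K.g 8) * g⁻¹ := by
    conv_rhs => rw [← hfix]
    rw [hk]; group
  have hkv : k * qy K (K.g 1032) * k⁻¹ = v := by
    rw [← pX_z, hk, mul_inv_rev, show g * qy K c * pX K z * ((qy K c)⁻¹ * g⁻¹) =
      g * (qy K c * pX K z * (qy K c)⁻¹) * g⁻¹ by group, ← pX_conj_CE K K.inD_z hc, ← ev]
    group
  have hz : k⁻¹ * x * k⁻¹⁻¹ * (k⁻¹ * y * k⁻¹⁻¹) = qy K z := by
    rw [show k⁻¹ * x * k⁻¹⁻¹ * (k⁻¹ * y * k⁻¹⁻¹) = k⁻¹ * (x * y) * k by group, ← e, ← hku, ← hkv,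
      show k⁻¹ * (k * qy K (K.g 8) * k⁻¹ * (k * qy K (K.g 1032) * k⁻¹)) * k =
        qy K (K.g 8) * qy K (K.g 1032) by group, ← pX_z, qy_a_mul_pX K K.inD_z]
  rcases pair_z K (inn_conj K k⁻¹ (commute_inn K hx hy hxy))
      (fun h => nxy (mul_left_cancel (mul_right_cancel h))) hz with h1 | h1
  · left
    rw [← hku, ← h1]; group
  · right
    have hy' : y = g * qy K (K.g 8) * g⁻¹ := by rw [← hku, ← h1]; group
    rw [hy'] at e
    rw [huv.eq] at e
    exact (mul_right_cancel e).symm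

/-- a pair is not a member -/
theorem pair_not_mem {u v : Y K} (hu : u ∈ DY K) (hv : v ∈ DY K) (huv : Commute u v) (nuv : u ≠ v) :
    u * v ∉ DY K := by
  have h := commute_inn K hu hv huv
  obtain ⟨g, rfl⟩ := hu
  have h' := inn_conj K g⁻¹ h
  rw [show g⁻¹ * (g * qy K (K.g 8) * g⁻¹) * g⁻¹⁻¹ = qy K (K.g 8) by group] at h'
  obtain ⟨X, hX, ev⟩ := inn_point K h' fun e' => nuv (by rw [← e']; group)
  intro hm
  have hm' := DY_conj K g⁻¹ hm
  rw [show g⁻¹ * (g * qy K (K.g 8) * g⁻¹ * v) * g⁻¹⁻¹ = qy K (K.g 8) * (g⁻¹ * v * g⁻¹⁻¹) by group, ev,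
    qy_a_mul_pX K hX] at hm'
  exact dl_not_conj K ((mem_DY K (CE_le_CT K (K.inD_mem hX))).1 hm') (K.inD_isConj hX)

/-! ## The chart -/

/-- the setting of the recognition of Fi22 -/
noncomputable def hostY (M : Model K) : Fi22Core20.Host (DY K) (qy K (K.g 8)) where
  mem := ya_mem K
  order := fun _ hx => DY_order K hx
  conjD := fun g _ hx => DY_conj K g hx
  trans := fun _ hx => hx
  chart :=
  { P := fun v => pX K (M.el (idx v))
    mem := fun v _ => ⟨pX_mem K (M.inD _), pX_ne_a K (M.inD _), pX_comm_a K (M.inD _)⟩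
    surj := fun y hy => by
      obtain ⟨X, hX, rfl⟩ := inn_point K (comm_a_inn K hy.1 hy.2.2.symm) hy.2.1
      obtain ⟨i, rfl⟩ := M.surj X hX
      obtain ⟨v, hv, rfl⟩ := idx_surj i
      exact ⟨v, hv, rfl⟩
    eq := fun v w hv hw => by rw [pX_inj K (M.inD _) (M.inD _), M.inj.eq_iff, idx_eq hv hw]
    comm := fun v w hv hw => by rw [pX_comm K (M.inD _) (M.inD _), M.comm, idx_herm hv hw]
    conj := fun v w hv hw => by rw [pX_conj K (M.inD _) (M.inD _), M.conj, idx_tr hv hw] }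

/-- only `1` and the image of `a` centralise it and its perp set -/
theorem kernelY (M : Model K) : Fi22Core20.Kernel (DY K) (qy K (K.g 8)) := by
  intro g hga hperp
  obtain ⟨w, hw, rfl⟩ := qy_surj K g
  have hP : ∀ X, K.InD X → Commute (qy K w) (pX K X) := fun X hX =>
    hperp _ ⟨pX_mem K hX, pX_ne_a K hX, pX_comm_a K hX⟩
  have lift : ∀ X, K.InD X → K.InD (w * X * w⁻¹) → w * K.g 8 * w⁻¹ = K.g 8 ∨ w * K.g 8 * w⁻¹ = K.g 12 →
      w * X * w⁻¹ = X := by
    intro X hX hX' ha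
    refine (pX_inj K hX' hX).1 ?_
    conv_rhs => rw [← mul_inv_eq_iff_eq_mul.2 (hP X hX).eq]
    rw [pX, pX, ← qy_conj K hw (inD_a_CT K hX),
      show w * (X * K.g 8) * w⁻¹ = w * X * w⁻¹ * (w * K.g 8 * w⁻¹) by group]
    rcases ha with e | e <;> rw [e]
    rw [← g_four_eight K, ← mul_assoc, qy_mul_t K (inD_a_CT K hX')]
  have ha := (qy_comm_iff K hw (qy_a_mem K)).1 hga
  rw [g_four_eight] at ha
  have hNE : NE K w := ⟨hw, ha⟩
  have hfix : ∀ X, K.InD X → Commute w X := fun X hX =>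
    mul_inv_eq_iff_eq_mul.1 (lift X hX (NE_inD K hNE hX) ha)
  have h8 : Commute w (K.g 8) := by
    obtain ⟨-, -, -, -, -, -, x8⟩ := e_states
    have hlt : ∀ m ∈ ptsL, m < 2048 := by decide
    have hp : ∀ m ∈ [80, 96, 193, 505, 1216, 1472], m ∈ ptsL := by decide
    have hc : ∀ m ∈ [80, 96, 193, 505, 1216, 1472], Commute w (K.g m) := fun m hm => hfix _ (K.pts_inD (hp m hm))
    have h2 : ∀ {a b : Nat}, a < 2048 → b < 2048 → Commute w (K.g a) → Commute w (K.g b) →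
        Commute w (K.g (a ^^^ b)) := fun ha hb h h' => by rw [K.g_xor ha hb]; exact h.mul_right h'
    have l2 : 80 ^^^ 96 < 2048 := by decide
    have l3 : 80 ^^^ 96 ^^^ 193 < 2048 := by decide
    have l4 : 80 ^^^ 96 ^^^ 193 ^^^ 505 < 2048 := by decide
    have l5 : 80 ^^^ 96 ^^^ 193 ^^^ 505 ^^^ 1216 < 2048 := by decide
    have h := h2 l5 (by norm_num) (h2 l4 (by norm_num) (h2 l3 (by norm_num) (h2 l2 (by norm_num)
      (h2 (by norm_num) (by norm_num) (hc 80 (by simp)) (hc 96 (by simp))) (hc 193 (by simp)))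
      (hc 505 (by simp))) (hc 1216 (by simp))) (hc 1472 (by simp))
    rwa [x8] at h
  have hwC : w ∈ K.CE := K.mem_CE.2 ⟨(mem_CT K).1 hw, h8.symm⟩
  let wE : K.CE := ⟨w, hwC⟩
  have hmk : ∀ x ∈ K.DE, Commute (QuotientGroup.mk wE : K.KE) x := by
    rintro _ ⟨X, hX, rfl⟩
    exact (show Commute wE X from Subtype.ext (hfix _ hX).eq).map (QuotientGroup.mk' K.EC)
  rcases K.kernel _ (hmk _ K.zE_mem) (fun x hx => hmk x hx.1) with h | h
  · have hE : w ∈ K.EG := by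
      have h' := (QuotientGroup.eq_one_iff wE).1 h
      exact h'
    obtain ⟨n, hn, rfl⟩ := K.mem_EG.1 hE
    simp only [eL, List.mem_cons, List.not_mem_nil, or_false] at hn
    rcases hn with rfl | rfl | rfl | rfl
    exacts [Or.inl (by rw [K.g_zero, qy_one]), Or.inl (qy_t K), Or.inr rfl, Or.inr (qy_b K)]
  · exfalso
    have hall : ∀ X, K.InD X → Commute z X := fun X hX =>
      congrArg Subtype.val (K.lift_comm (a := ⟨z, K.z_mem_CE⟩) (b := ⟨X, K.inD_mem hX⟩) hX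
        (by rw [← Ctx.zE, ← h]; exact hmk _ ⟨_, hX, rfl⟩)).eq
    have hcomm : ∀ X X', K.InD X → K.InD X' → Commute X X' := by
      rintro X X' ⟨c, hc, rfl⟩ hX'
      have h' := (hall _ (K.inD_conj (inv_mem hc) hX')).map (MulAut.conj c)
      simpa [mul_assoc] using h'
    obtain ⟨u, v, hu, hv, huv⟩ : ∃ u v : V, Iso1 u ∧ Iso1 v ∧ J1 u v ≠ 0 :=
      ⟨e0, FischerUniq91.Coord.unit 5, by decide +kernel⟩
    exact huv ((idx_herm hu hv).1 ((M.comm _ _).1 (hcomm _ _ (M.inD _) (M.inD _))))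

end Cfsg.Agent.Lib.FischerFi22Large20
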