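import Cfsg.Agent.Lib.FischerFi22Large20.Perp
import Cfsg.Agent.Lib.FischerFi22Large20.Conn

/-!
# Three commuting members: the centraliser of their product keeps the component

Owner: helper20.
-/

set_option autoImplicit false
set_option linter.style.haveILetI false
set_option linter.unusedSectionVars false
set_option maxRecDepth 100000

namespace Cfsg.Agent.Lib.FischerFi22Large20

open Cfsg.Agent.Lib.LargeFischer13
open Cfsg.Agent.Lib.FischerLarge43
open Cfsg.Agent.Lib.FischerLarge58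
open Cfsg.Agent.Lib.FischerLarge45 (Local zc)
open Cfsg.Agent.Lib.Fi22Core20 (comp perp_sub_comp)

attribute [local instance] Bridge.acg Bridge.fin Bridge.act

universe u

variable {G : Type u} [Group G] [Finite G] {z : G} {Q : Subgroup (Cz z)} [Q.Normal]
variable {L : Local z Q} (K : Ctx L) (M : Model K)

theorem inj5 : ∀ x : Fin 24, x ≠ 3 → x ≠ 4 → x ≠ 10 → x ≠ 7 →
    Function.Injective ![(3 : Fin 24), 7, 10, x, 4] ∧ Function.Injective ![(3 : Fin 24), 4, 7, 10, x] ∧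
      Function.Injective ![(4 : Fin 24), 3, 7, 10, x] := by
  simp only [Function.Injective]
  decide

/-- the centraliser of a four containing `3, 7, 10` carries `a` into `A` -/
theorem carry {x : Fin 24} (h3 : x ≠ 3) (h4 : x ≠ 4) (h10 : x ≠ 10) (h7 : x ≠ 7) {k : G} (hk : k ∈ CT K)
    (hks : Commute k (K.g (pvF 3 7) * K.g (pvF 10 x))) : k * K.g 8 * k⁻¹ ∈ AG L := by
  obtain ⟨p4, p8, -, p28, -⟩ := small_states
  obtain ⟨m1, m2, m3, m4, m5⟩ := move_ok
  obtain ⟨h, hh, hm⟩ := exists_perm5 K ![3, 4, 7, 10, 13] ![3, 7, 10, x, 4] (by decide) (inj5 x h3 h4 h10 h7).1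
  have ez : h * z * h⁻¹ = K.g (pvF 3 7) * K.g (pvF 10 x) := by
    have hz : K.g (pvF 3 4) * K.g (pvF 10 7) = z := by
      rw [p4, p28, ← K.g_xor (by norm_num) (by norm_num)]
      exact K.g_z
    conv_lhs => rw [← hz]
    rw [show h * (K.g (pvF 3 4) * K.g (pvF 10 7)) * h⁻¹ =
      h * K.g (pvF 3 4) * h⁻¹ * (h * K.g (pvF 10 7) * h⁻¹) by group]
    congr 1
    · exact hm 0 1
    · rw [pvF_comm 10 7, pvF_comm 10 x]
      have := hm 2 3
      simpa [pvF_comm] using this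
  have et : h * K.g (pvF 3 13) * h⁻¹ = K.g 4 := by
    have := hm 0 4
    simpa [p4] using this
  have ea : h * K.g (pvF 3 7) * h⁻¹ = K.g 8 := by
    have := hm 0 2
    simpa [p8] using this
  set g' := h⁻¹ * k * h with hg'
  have hgc : ∀ w, Commute k (h * w * h⁻¹) → Commute g' w := by
    intro w hw
    have := hw.map (MulAut.conj h⁻¹)
    simpa [hg', mul_assoc] using this
  have hz : Commute g' z := hgc z (by rw [ez]; exact hks)
  set c : Cz z := ⟨g', Subgroup.mem_centralizer_singleton_iff.2 hz.eq⟩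
  set y := (pvF 3 13 >>> 6) &&& 15
  have hcy : ∀ v < 4096, L.S.ac (QuotientGroup.mk c) (bimg y v) = bimg y (L.S.ac (QuotientGroup.mk c) v) := by
    intro v hv
    have hcm : Commute c (K.P.el (pvF 3 13)) :=
      Subtype.ext (hgc (K.g (pvF 3 13)) (by rw [et]; exact ((mem_CT K).1 hk).symm)).eq
    have hq : (QuotientGroup.mk c : (Cz z) ⧸ Q) * QuotientGroup.mk (K.P.eY y) =
        QuotientGroup.mk (K.P.eY y) * QuotientGroup.mk c := by
      rw [← K.P.mk_el, ← QuotientGroup.mk_mul, ← QuotientGroup.mk_mul, hcm.eq]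
    rw [← K.P.ac_eY _ hv, ← L.S.ac_mul, hq, L.S.ac_mul, K.P.ac_eY _ (L.S.ac_lt _ _)]
  obtain ⟨v, hv, hv'⟩ := List.any_eq_true.1 m4
  rw [List.mem_range] at hv
  rw [beq_iff_eq] at hv'
  have h240 : L.S.ac (QuotientGroup.mk c) 240 ∈ FischerLarge45.Model.uSet := by
    have hw := L.S.ac_lt (QuotientGroup.mk c) v
    have e : L.S.ac (QuotientGroup.mk c) 240 =
        L.S.ac (QuotientGroup.mk c) v ^^^ bimg y (L.S.ac (QuotientGroup.mk c) v) := by
      rw [← hcy v hv, ← hv']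
      refine L.S.E_inj (L.S.ac_lt _ _) (Nat.xor_lt_two_pow (n := 12) hw (L.S.ac_lt _ _)) ?_
      rw [L.S.E_xor, L.S.E_ac, L.S.E_ac, L.S.E_ac, L.S.E_xor, smul_add]
    rw [e]
    exact List.contains_iff_mem.1 (List.all_eq_true.1 m5 _ (List.mem_range.2 hw))
  obtain ⟨q, eq, hq⟩ := K.el_Q m3
  rw [m2] at hq
  have hU : c * (q : Cz z) * c⁻¹ ∈ L.U :=
    mem_U_of_code L (q := ⟨c * q * c⁻¹, Subgroup.Normal.conj_mem inferInstance _ q.2 c⟩) h240
      (π_conj_code L c q (by norm_num) hq (f := L.S.ac (QuotientGroup.mk c)) rfl rfl)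
  have hA : g' * K.g (pvF 3 7) * g'⁻¹ ∈ AG L := ⟨_, L.data.U_le_W hU, by
    rw [eq, m1]
    rfl⟩
  have := (Subgroup.mem_normalizer_iff.1 hh _).1 hA
  rw [← ea]
  rwa [show h * (g' * K.g (pvF 3 7) * g'⁻¹) * h⁻¹ = k * (h * K.g (pvF 3 7) * h⁻¹) * k⁻¹ by
    rw [hg']; group] at this

include M in
/-- a member lying in `A` is in the component -/
theorem A_comp {w : G} (hw : Dl K w) (hA : w ∈ AG L) : qy K w ∈ comp (DY K) (qy K (K.g 8)) := by
  obtain ⟨n, hn, e⟩ := (mem_AG (P := K.P)).1 hA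
  change K.g n = w at e
  subst e
  have hne : ∀ j, j = 0 ∨ j = 4 → n ≠ j := by
    rintro j (rfl | rfl) rfl
    · exact dl_qy_ne_one K hw (by rw [K.g_zero, qy_one])
    · exact dl_qy_ne_one K hw (qy_t K)
  have h4 : n ^^^ 4 < 2048 := Nat.xor_lt_two_pow (n := 11) hn (by norm_num)
  have t1 : ttM.testBit n = true := (K.mem_tt hn).2 ⟨hne 0 (Or.inl rfl), dl_not_conj K hw⟩
  have t2 : ttM.testBit (n ^^^ 4) = true := by
    refine (K.mem_tt h4).2 ⟨fun h => hne 4 (Or.inr rfl) (Nat.xor_eq_zero_iff.1 h), ?_⟩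
    rw [K.g_xor hn (by norm_num)]
    exact dl_not_conj K (dl_mul_t K hw)
  have hcase := List.all_eq_true.1 duad_meet n (List.mem_range.2 hn)
  simp only [t1, t2, Bool.and_self, Bool.not_true, Bool.false_or, Bool.or_eq_true,
    List.contains_iff_mem] at hcase
  have hb := (hostY K M).mem_comp_self
  have back : ∀ j, j ∈ eL → qy K (K.g j) = qy K (K.g 8) → ptsM.testBit (n ^^^ j) = true →
      qy K (K.g n) ∈ comp (DY K) (qy K (K.g 8)) := by
    intro j hj ej hp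
    rw [← ptsM_ok, FischerLarge58.list_mask] at hp
    have hjl := (eL_facts j hj).1
    have hx := Nat.xor_lt_two_pow (n := 11) hn hjl
    have hX := K.pts_inD hp
    have e : qy K (K.g n) = pX K (K.g (n ^^^ j)) := by
      rw [pX, qy_mul K (g_mem_CT K hx) (qy_a_mem K), ← ej, ← qy_mul K (g_mem_CT K hx) (g_mem_CT K hjl),
        ← K.g_xor hx hjl, Nat.xor_assoc, Nat.xor_self, Nat.xor_zero]
    rw [e]
    exact perp_sub_comp ⟨pX_mem K hX, pX_ne_a K hX, pX_comm_a K hX⟩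
  rcases hcase with (h | h) | h
  · simp only [eL, List.mem_cons, List.not_mem_nil, or_false] at h
    rcases h with rfl | rfl | rfl | rfl
    · exact absurd rfl (hne 0 (Or.inl rfl))
    · exact absurd rfl (hne 4 (Or.inr rfl))
    · exact hb
    · rw [qy_b]; exact hb
  · exact back 8 (by simp [eL]) rfl h
  · exact back 12 (by simp [eL]) (qy_b K) h

include M in
/-- moving one member into the component moves the component -/
theorem moveY {g u : Y K} (hu : u ∈ comp (DY K) (qy K (K.g 8)))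
    (hg : g * u * g⁻¹ ∈ comp (DY K) (qy K (K.g 8))) {y : Y K} (hy : y ∈ comp (DY K) (qy K (K.g 8))) :
    g * y * g⁻¹ ∈ comp (DY K) (qy K (K.g 8)) := by
  rw [← (hostY K M).comp_eq hu] at hy
  rw [← (hostY K M).comp_eq hg]
  exact Setting.rel_conj (hostY K M).conjD g hy

include M in
theorem triple_keep {u v c : Y K} (hu : u ∈ comp (DY K) (qy K (K.g 8))) (hv : v ∈ DY K) (hc : c ∈ DY K)
    (huv : Commute u v) (huc : Commute u c) (hvc : Commute v c) (nuv : u ≠ v) (nuc : u ≠ c) (nvc : v ≠ c)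
    (g : Y K) (hg : Commute g (u * v * c)) :
    ∀ y ∈ comp (DY K) (qy K (K.g 8)), g * y * g⁻¹ ∈ comp (DY K) (qy K (K.g 8)) := by
  obtain ⟨g0, hg0⟩ := hu.1
  set v1 := g0⁻¹ * v * g0⁻¹⁻¹ with hv1
  have hv1a : Commute v1 (qy K (K.g 8)) := by
    have := (huv.map (MulAut.conj g0⁻¹)).symm
    simpa [hv1, ← hg0, mul_assoc] using this
  obtain ⟨X1, hX1, eX1⟩ := inn_point K (comm_a_inn K (DY_conj K g0⁻¹ hv) hv1a)
    (fun h => nuv (by rw [← hg0, ← h]; group))
  obtain ⟨c1, hc1, rfl⟩ := hX1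
  have hfix : ∀ {d}, d ∈ K.CE → qy K d * (qy K (K.g 8)) * (qy K d)⁻¹ = (qy K (K.g 8)) := fun {d} hd => by
    rw [← qy_conj K (CE_le_CT K hd) (qy_a_mem K), ((K.mem_CE.1 hd).2).symm.eq, mul_inv_cancel_right]
  set g1 := g0 * qy K c1
  have hg1u : g1 * (qy K (K.g 8)) * g1⁻¹ = u := by
    rw [← hg0]
    conv_rhs => rw [← hfix hc1]
    simp only [g1]; group
  have hg1v : g1 * pX K z * g1⁻¹ = v := by
    simp only [g1]
    rw [mul_inv_rev, show g0 * qy K c1 * pX K z * ((qy K c1)⁻¹ * g0⁻¹) =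
      g0 * (qy K c1 * pX K z * (qy K c1)⁻¹) * g0⁻¹ by group, ← pX_conj_CE K K.inD_z hc1, ← eX1]
    group
  set c' := g1⁻¹ * c * g1⁻¹⁻¹ with hc'
  have hc'a : Commute c' (qy K (K.g 8)) := by
    have := (huc.map (MulAut.conj g1⁻¹)).symm
    simpa [hc', ← hg1u, mul_assoc] using this
  obtain ⟨X2, hX2, eX2⟩ := inn_point K (comm_a_inn K (DY_conj K g1⁻¹ hc) hc'a)
    (fun h => nuc (by rw [← hg1u, ← h]; group))
  have hzX : Commute z X2 := by
    rw [← pX_comm K K.inD_z hX2, ← eX2]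
    have := hvc.map (MulAut.conj g1⁻¹)
    simpa [hc', ← hg1v, mul_assoc] using this
  have hne2 : X2 ≠ z := fun h => nvc (by rw [← hg1v, show pX K z = pX K X2 by rw [h], ← eX2]; group)
  let X : Cz z := ⟨X2, Subgroup.mem_centralizer_singleton_iff.2 hzX.symm.eq⟩
  obtain ⟨c2, hc2, m, hm, hmne, eX⟩ := K.near_form (X := X) ⟨hX2, fun h => hne2 (congrArg Subtype.val h)⟩
  have hc2C : (c2 : G) ∈ K.CE := hc2
  have hmlt := (pts_facts hm hmne).1
  have eX' : X2 = (c2 : G) * K.g m * (c2 : G)⁻¹ := congrArg Subtype.val eX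
  set y0 := g1 * qy K (c2 : G)
  have hy0u : y0 * (qy K (K.g 8)) * y0⁻¹ = u := by
    rw [← hg1u]
    conv_rhs => rw [← hfix hc2C]
    simp only [y0]; group
  have hmD : K.InD (K.g m) := K.pts_inD hm
  have hz0 : qy K (c2 : G) * pX K z * (qy K (c2 : G))⁻¹ = pX K z := by
    rw [← pX_conj_CE K K.inD_z hc2C, Subgroup.mem_centralizer_singleton_iff.1 c2.2, mul_inv_cancel_right]
  have hy0v : y0 * pX K z * y0⁻¹ = v := by
    rw [← hg1v]
    conv_rhs => rw [← hz0]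
    simp only [y0]; group
  have hy0c : y0 * pX K (K.g m) * y0⁻¹ = c := by
    simp only [y0]
    rw [mul_inv_rev, show g1 * qy K (c2 : G) * pX K (K.g m) * ((qy K (c2 : G))⁻¹ * g1⁻¹) =
      g1 * (qy K (c2 : G) * pX K (K.g m) * (qy K (c2 : G))⁻¹) * g1⁻¹ by group,
      ← pX_conj_CE K hmD hc2C, ← eX', ← eX2]
    group
  obtain ⟨x, hx3, hx4, hx10, hpx⟩ := pts_index hm
  have hx7 : x ≠ 7 := by
    rintro rfl
    rw [small_states.2.2.2.1] at hpx
    refine hmne ?_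
    rw [show m = m ^^^ 4 ^^^ 4 by rw [Nat.xor_assoc, Nat.xor_self, Nat.xor_zero], ← hpx]
    rfl
  set s := K.g (pvF 3 7) * K.g (pvF 10 x) with hs
  have hsC : s ∈ CT K := mul_mem (g_mem_CT K (pvF_lt _ _)) (g_mem_CT K (pvF_lt _ _))
  have hprod : u * v * c = y0 * qy K s * y0⁻¹ := by
    rw [← hy0u, ← hy0v, ← hy0c, show y0 * (qy K (K.g 8)) * y0⁻¹ * (y0 * pX K z * y0⁻¹) * (y0 * pX K (K.g m) * y0⁻¹) =
      y0 * ((qy K (K.g 8)) * pX K z * pX K (K.g m)) * y0⁻¹ by group, qy_a_mul_pX K K.inD_z, pX,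
      ← qy_mul K (z_mem_CT K) (inD_a_CT K hmD), hs, move_ok.1, hpx, K.g_xor hmlt (by norm_num),
      ← z_mul_b, ← g_four_eight K]
    congr 3
    have h4m : Commute (K.g 4) (K.g m) := K.g_comm (by norm_num) hmlt
    have h8m : Commute (K.g 8) (K.g m) := K.g_comm (by norm_num) hmlt
    calc z * (K.g m * K.g 8) = z * (K.g 8 * K.g m) := by rw [h8m.eq]
      _ = z * (K.g 8 * (K.g 4 * K.g 4) * K.g m) := by rw [t_sq K, mul_one]
      _ = z * (K.g 8 * K.g 4) * (K.g 4 * K.g m) := by group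
      _ = _ := by rw [h4m.eq]
  have hg' : Commute (y0⁻¹ * g * y0) (qy K s) := by
    rw [hprod] at hg
    have := hg.map (MulAut.conj y0⁻¹)
    simpa [mul_assoc] using this
  obtain ⟨X', hX', eX''⟩ := qy_surj K (y0⁻¹ * g * y0)
  rw [← eX''] at hg'
  obtain ⟨n, -, hn⟩ := exists_perm5 K ![3, 4, 7, 10, x] ![4, 3, 7, 10, x] (inj5 x hx3 hx4 hx10 hx7).2.1
    (inj5 x hx3 hx4 hx10 hx7).2.2
  obtain ⟨p4, p8, p12, -, p47, -⟩ := small_states
  have hnT : n ∈ CT K := by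
    have h := hn 0 1
    rw [mem_CT]
    exact (mul_inv_eq_iff_eq_mul.1 (by simpa [p4, pvF_comm 4 3] using h)).symm
  have hna : n * K.g 8 * n⁻¹ = K.g 12 := by
    have h := hn 0 3
    simpa [p8, p12] using h
  have hns : n * s * n⁻¹ = s * K.g 4 := by
    rw [hs, show n * (K.g (pvF 3 7) * K.g (pvF 10 x)) * n⁻¹ =
      n * K.g (pvF 3 7) * n⁻¹ * (n * K.g (pvF 10 x) * n⁻¹) by group]
    have h1 : n * K.g (pvF 3 7) * n⁻¹ = K.g 1032 := by simpa [p47] using hn 0 2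
    have h2 : n * K.g (pvF 10 x) * n⁻¹ = K.g (pvF 10 x) := by simpa using hn 3 4
    rw [h1, h2, mul_assoc, (K.g_comm (pvF_lt _ _) (by norm_num) : Commute (K.g (pvF 10 x)) (K.g 4)).eq,
      ← mul_assoc, move_ok.1, ← K.g_xor (a := 1036) (b := 4) (by norm_num) (by norm_num)]
    rfl
  have key : ∀ k ∈ CT K, Commute k s →
      qy K k * (qy K (K.g 8)) * (qy K k)⁻¹ ∈ comp (DY K) (qy K (K.g 8)) := by
    intro k hk hks
    rw [← qy_conj K hk (qy_a_mem K)]
    exact A_comp K M (dl_conj K hk ⟨1, one_mem _, Or.inl (by group)⟩) (carry K hx3 hx4 hx10 hx7 hk hks)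
  have hb := (hostY K M).mem_comp_self
  have hkeep : ∀ y ∈ comp (DY K) (qy K (K.g 8)),
      qy K X' * y * (qy K X')⁻¹ ∈ comp (DY K) (qy K (K.g 8)) := by
    intro y hy
    rcases (qy_comm_iff K hX' hsC).1 hg' with e | e
    · exact moveY K M hb (key X' hX' (mul_inv_eq_iff_eq_mul.1 e)) hy
    · have hk : n⁻¹ * X' ∈ CT K := mul_mem (inv_mem hnT) hX'
      have hks : Commute (n⁻¹ * X') s := by
        refine mul_inv_eq_iff_eq_mul.1 ?_
        rw [show n⁻¹ * X' * s * (n⁻¹ * X')⁻¹ = n⁻¹ * (X' * s * X'⁻¹) * n by group, e, ← hns]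
        group
      have h1 := moveY K M hb (key _ hk hks) hy
      have h2 : ∀ w ∈ comp (DY K) (qy K (K.g 8)), qy K n * w * (qy K n)⁻¹ ∈ comp (DY K) (qy K (K.g 8)) := fun w hw => by
        refine moveY K M hb ?_ hw
        rw [← qy_conj K hnT (qy_a_mem K), hna, qy_b]
        exact hb
      have := h2 _ h1
      rw [qy_mul K (inv_mem hnT) hX', qy_inv K hnT] at this
      simpa [mul_assoc] using this
  intro y hy
  have hy0 : ∀ w ∈ comp (DY K) (qy K (K.g 8)), y0 * w * y0⁻¹ ∈ comp (DY K) (qy K (K.g 8)) := fun w hw =>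
    moveY K M hb (hy0u ▸ hu) hw
  have hy0i : y0⁻¹ * y * y0⁻¹⁻¹ ∈ comp (DY K) (qy K (K.g 8)) := by
    refine moveY K M hu ?_ hy
    rw [← hy0u, show y0⁻¹ * (y0 * (qy K (K.g 8)) * y0⁻¹) * y0⁻¹⁻¹ = (qy K (K.g 8)) by group]
    exact hb
  have := hy0 _ (hkeep _ hy0i)
  rwa [eX'', show y0 * (y0⁻¹ * g * y0 * (y0⁻¹ * y * y0⁻¹⁻¹) * (y0⁻¹ * g * y0)⁻¹) * y0⁻¹ = g * y * g⁻¹ by
    group] at this

/-- the setting of the connectedness argument -/
noncomputable def settingY (M : Model K) : Setting (DY K) (qy K (K.g 8)) where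
  H := hostY K M
  ker := kernelY K M
  pair _ _ _ _ hu hv hx hy := pair_unique K hu hv hx hy
  pair_not _ _ hu hv := pair_not_mem K hu hv
  triple _ _ _ hu hv hc := triple_keep K M hu hv.1 hc.1

end Cfsg.Agent.Lib.FischerFi22Large20
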